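import Groth.Agent.L01.FlatCx.Seq
import Mathlib.RingTheory.TensorProduct.Maps
import Mathlib.RingTheory.Flat.Basic
import Mathlib.RingTheory.Finiteness.Basic
import Mathlib.Algebra.Module.FinitePresentation
import Mathlib.Algebra.Module.Projective

/-!
Quotients by powers of a nonzerodivisor.
-/

set_option autoImplicit false
set_option linter.style.haveILetI false
set_option linter.unusedSectionVars false

universe u

open TensorProduct

noncomputable section

namespace Groth.L02.RhoExt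

variable {R S₀ : Type u} [CommRing R] [CommRing S₀] [Algebra R S₀] (t : S₀)

theorem flat_quot_pow (ht : t ∈ nonZeroDivisors S₀) [Module.Flat R (S₀ ⧸ Ideal.span {t})] :
    ∀ j : ℕ, Module.Flat R (S₀ ⧸ Ideal.span {t ^ j}) := by
  intro j
  induction j with
  | zero =>
    haveI : Subsingleton (S₀ ⧸ Ideal.span {t ^ 0}) :=
      Ideal.Quotient.subsingleton_iff.2 (by rw [pow_zero, Ideal.span_singleton_one])
    infer_instance
  | succ j ih =>
    let f : (S₀ ⧸ Ideal.span {t}) →ₗ[S₀] S₀ ⧸ Ideal.span {t ^ (j + 1)} :=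
      Submodule.mapQ _ _ (LinearMap.mulLeft S₀ (t ^ j)) (by
        intro x hx
        obtain ⟨c, rfl⟩ := Ideal.mem_span_singleton.1 hx
        exact Ideal.mem_span_singleton.2 ⟨c, by simp [pow_succ, mul_assoc]⟩)
    let g : (S₀ ⧸ Ideal.span {t ^ (j + 1)}) →ₗ[S₀] S₀ ⧸ Ideal.span {t ^ j} :=
      Submodule.mapQ _ _ LinearMap.id (by
        intro x hx
        obtain ⟨c, rfl⟩ := Ideal.mem_span_singleton.1 hx
        exact Ideal.mem_span_singleton.2 ⟨t * c, by simp [pow_succ, mul_assoc]⟩)
    have hf : Function.Injective f := by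
      rw [injective_iff_map_eq_zero]
      intro x hx
      obtain ⟨x, rfl⟩ := Submodule.mkQ_surjective _ x
      obtain ⟨c, hc⟩ := Ideal.mem_span_singleton.1 ((Submodule.Quotient.mk_eq_zero _).1 hx)
      refine (Submodule.Quotient.mk_eq_zero _).2 (Ideal.mem_span_singleton.2 ⟨c, ?_⟩)
      exact mul_cancel_left_mem_nonZeroDivisors (pow_mem ht j) |>.1 (hc.trans (by rw [pow_succ, mul_assoc]))
    have hg : Function.Surjective g := fun y => by
      obtain ⟨y, rfl⟩ := Submodule.mkQ_surjective _ y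
      exact ⟨Submodule.Quotient.mk y, rfl⟩
    have hfg : Function.Exact f g := fun y => by
      obtain ⟨y, rfl⟩ := Submodule.mkQ_surjective _ y
      constructor
      · intro hy
        obtain ⟨c, hc⟩ := Ideal.mem_span_singleton.1 ((Submodule.Quotient.mk_eq_zero _).1 hy)
        exact ⟨Submodule.Quotient.mk c, congrArg Submodule.Quotient.mk hc.symm⟩
      · rintro ⟨x, hx⟩
        obtain ⟨x, rfl⟩ := Submodule.mkQ_surjective _ x
        rw [← hx]
        exact (Submodule.Quotient.mk_eq_zero _).2 (Ideal.mem_span_singleton.2 ⟨x, rfl⟩)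
    exact Groth.L01.FlatCx.flat_middle (A := R) (f := f.restrictScalars R) (g := g.restrictScalars R) hf hg hfg

theorem finitePresentation_quot (u : S₀) : Module.FinitePresentation S₀ (S₀ ⧸ Ideal.span {u}) :=
  Module.finitePresentation_of_surjective (Submodule.mkQ _) (Submodule.mkQ_surjective _)
    (by rw [Submodule.ker_mkQ]; exact Submodule.fg_span_singleton u)

/-- The elements killed by `B ⊗ (S₀/u)`. -/
theorem tmul_one_eq_zero_iff {B : Type u} [CommRing B] [Algebra S₀ B] (u : S₀) (b : B) :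
    b ⊗ₜ[S₀] (1 : S₀ ⧸ Ideal.span {u}) = 0 ↔ b ∈ Ideal.span {algebraMap S₀ B u} := by
  constructor
  · intro h
    let μ : B ⊗[S₀] (S₀ ⧸ Ideal.span {u}) →ₐ[S₀] B ⧸ Ideal.span {algebraMap S₀ B u} :=
      Algebra.TensorProduct.productMap (IsScalarTower.toAlgHom S₀ B _)
        (Ideal.Quotient.liftₐ _ (IsScalarTower.toAlgHom S₀ S₀ _) fun a ha => by
          obtain ⟨c, rfl⟩ := Ideal.mem_span_singleton.1 ha
          show algebraMap S₀ (B ⧸ Ideal.span {algebraMap S₀ B u}) (u * c) = 0
          refine Ideal.Quotient.eq_zero_iff_mem.2 (show algebraMap S₀ B (u * c) ∈ _ from ?_)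
          rw [map_mul]
          exact Ideal.mul_mem_right _ _ (Ideal.mem_span_singleton_self _))
    have := congrArg μ h
    rw [Algebra.TensorProduct.productMap_apply_tmul, map_one, mul_one, map_zero] at this
    exact Ideal.Quotient.eq_zero_iff_mem.1 this
  · intro h
    obtain ⟨c, rfl⟩ := Ideal.mem_span_singleton.1 h
    rw [← Algebra.smul_def, TensorProduct.smul_tmul, Algebra.smul_def, mul_one, Ideal.Quotient.algebraMap_eq,
      Ideal.Quotient.eq_zero_iff_mem.2 (Ideal.mem_span_singleton_self _), TensorProduct.tmul_zero]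

theorem one_tmul_mk_eq_zero_iff {B : Type u} [CommRing B] [Algebra S₀ B] (u c : S₀) :
    (1 : B) ⊗ₜ[S₀] (Ideal.Quotient.mk (Ideal.span {u}) c) = 0 ↔ algebraMap S₀ B c ∈ Ideal.span {algebraMap S₀ B u} := by
  have e : (1 : B) ⊗ₜ[S₀] (Ideal.Quotient.mk (Ideal.span {u}) c) = algebraMap S₀ B c ⊗ₜ[S₀] (1 : S₀ ⧸ Ideal.span {u}) := by
    rw [Algebra.algebraMap_eq_smul_one, TensorProduct.smul_tmul, Algebra.smul_def, mul_one, Ideal.Quotient.algebraMap_eq]
  rw [e, tmul_one_eq_zero_iff]

/-- `t` stays a nonzerodivisor after base change when the quotient by a power is projective. -/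
theorem mem_nonZeroDivisors_baseChange {R' S' T : Type u} [CommRing R'] [CommRing S'] [CommRing T] [Algebra R' S']
    [Algebra S₀ S'] [Algebra R' T] [SMulCommClass S₀ R' S'] [Module.Flat S₀ S'] (ht : t ∈ nonZeroDivisors S₀)
    {n : ℕ} (hn : 1 ≤ n) [Module.Projective R' (S' ⊗[S₀] (S₀ ⧸ Ideal.span {t ^ n}))] :
    algebraMap S₀ (S' ⊗[R'] T) t ∈ nonZeroDivisors (S' ⊗[R'] T) := by
  let N := S' ⊗[S₀] (S₀ ⧸ Ideal.span {t ^ n})
  let u := algebraMap S₀ S' (t ^ n)
  let M : S' →ₗ[R'] S' := LinearMap.mulLeft R' u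
  haveI : IsScalarTower R' S' N := TensorProduct.isScalarTower_left
  let g : S' →ₗ[R'] N := (LinearMap.toSpanSingleton S' N ((1 : S') ⊗ₜ[S₀] (1 : S₀ ⧸ Ideal.span {t ^ n}))).restrictScalars R'
  have hg1 : ∀ s, g s = s ⊗ₜ[S₀] (1 : S₀ ⧸ Ideal.span {t ^ n}) := fun s => by
    show s • ((1 : S') ⊗ₜ[S₀] (1 : S₀ ⧸ Ideal.span {t ^ n})) = _
    rw [TensorProduct.smul_tmul', smul_eq_mul, mul_one]
  have hg : Function.Surjective g := fun y => by
    induction y using TensorProduct.induction_on with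
    | zero => exact ⟨0, map_zero _⟩
    | add a b ha hb => exact ⟨ha.choose + hb.choose, by rw [map_add, ha.choose_spec, hb.choose_spec]⟩
    | tmul a c =>
      obtain ⟨c, rfl⟩ := Ideal.Quotient.mk_surjective c
      refine ⟨c • a, ?_⟩
      rw [hg1, TensorProduct.smul_tmul, Algebra.smul_def, mul_one, Ideal.Quotient.algebraMap_eq]
  have hu : Function.Injective M := by
    have h1 : Function.Injective (LinearMap.mulLeft S₀ (t ^ n)) := fun a b h =>
      mul_cancel_left_mem_nonZeroDivisors (pow_mem ht n) |>.1 h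
    have h2 := Module.Flat.lTensor_preserves_injective_linearMap (M := S') _ h1
    intro a b h
    have e : ∀ a : S', (LinearMap.mulLeft S₀ (t ^ n)).lTensor S' (a ⊗ₜ[S₀] 1) = (u * a) ⊗ₜ[S₀] 1 := fun a => by
      rw [LinearMap.lTensor_tmul, LinearMap.mulLeft_apply, ← smul_eq_mul, ← TensorProduct.smul_tmul,
        Algebra.smul_def]
    have h' : a ⊗ₜ[S₀] (1 : S₀) = b ⊗ₜ[S₀] (1 : S₀) := h2 (by rw [e, e]; exact congrArg (· ⊗ₜ[S₀] (1 : S₀)) h)
    simpa using congrArg (TensorProduct.rid S₀ S') h'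
  obtain ⟨σ, hσ⟩ := Module.projective_lifting_property g LinearMap.id hg
  have hker : ∀ s, g s = 0 ↔ ∃ y, M y = s := fun s => by
    rw [hg1, tmul_one_eq_zero_iff, Ideal.mem_span_singleton]
    exact ⟨fun ⟨c, hc⟩ => ⟨c, hc.symm⟩, fun ⟨c, hc⟩ => ⟨c, hc.symm⟩⟩
  have hsec : ∀ s, ∃ y, M y = s - σ (g s) := fun s => (hker _).1 (by
    rw [map_sub, show g (σ (g s)) = g s from LinearMap.congr_fun hσ (g s), sub_self])
  choose y hy using hsec
  let r : S' →ₗ[R'] S' :=
    { toFun := y
      map_add' := fun a b => hu (by rw [map_add M, hy, hy, hy, map_add g, map_add σ]; abel)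
      map_smul' := fun a s => hu (by rw [RingHom.id_apply, map_smul M, hy, hy, map_smul g, map_smul σ, smul_sub]) }
  have hr : r ∘ₗ M = LinearMap.id := LinearMap.ext fun x => hu (by
    show M (y (M x)) = M x
    rw [hy, (hker (M x)).2 ⟨x, rfl⟩, map_zero, sub_zero])
  rw [mem_nonZeroDivisors_iff_left]
  intro b hb
  have hM : ∀ b : S' ⊗[R'] T, M.rTensor T b = algebraMap S₀ (S' ⊗[R'] T) (t ^ n) * b := fun b => by
    induction b using TensorProduct.induction_on with
    | zero => simp
    | add a b ha hb => rw [map_add, mul_add, ha, hb]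
    | tmul a c =>
      rw [LinearMap.rTensor_tmul, Algebra.TensorProduct.algebraMap_apply, Algebra.TensorProduct.tmul_mul_tmul, one_mul]
      rfl
  have h0 : M.rTensor T b = 0 := by
    rw [hM, map_pow, ← Nat.sub_add_cancel hn, pow_succ, mul_assoc, hb, mul_zero]
  have := congrArg (r.rTensor T) h0
  rwa [← LinearMap.comp_apply, ← LinearMap.rTensor_comp, hr, LinearMap.rTensor_id, LinearMap.id_apply, map_zero] at this

end Groth.L02.RhoExt
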