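import Groth.Agent.L02.CAlg.QFSlice.FibreStalk
import Groth.Agent.L06.RegularSeqCodim
import Groth.Agent.L04.TightClosure
import Groth.Agent.L21.Smooth.Scheme
import Groth.Agent.L04.CMLoc
import Groth.Agent.L11.ThetaAff.Extend
import Groth.Prelude.Def_CInt

/-!
Sections of affine morphisms extend uniquely across closed subsets of codimension two in every fibre of a
smooth morphism.
-/

set_option autoImplicit false
set_option linter.style.haveILetI false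
set_option linter.unusedSectionVars false
set_option backward.isDefEq.respectTransparency false

universe u

open CategoryTheory CategoryTheory.Limits AlgebraicGeometry TopologicalSpace RingTheory.Sequence
open scoped Pointwise

noncomputable section

namespace Groth.L02.RhoExt

variable {P S : Scheme.{u}}

/-- The functions on `W` whose nonvanishing locus lies in `U`. -/
def openIdeal (U W : P.Opens) : Ideal Γ(P, W) where
  carrier := {g | P.basicOpen g ≤ U}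
  add_mem' {g h} hg hh := fun z hz => by
    have hzW : z ∈ W := P.basicOpen_le _ hz
    rw [Scheme.mem_basicOpen _ _ _ hzW, map_add] at hz
    rcases IsLocalRing.isUnit_or_isUnit_of_isUnit_add hz with h₁ | h₁
    · exact hg ((Scheme.mem_basicOpen _ _ _ hzW).2 h₁)
    · exact hh ((Scheme.mem_basicOpen _ _ _ hzW).2 h₁)
  zero_mem' := by simp
  smul_mem' c g hg := fun z hz => by
    rw [smul_eq_mul, Scheme.basicOpen_mul] at hz
    exact hg hz.2

/-- A local regular pair among the functions supported in `U`. -/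
structure Pair (U : P.Opens) (W : P.Opens) where
  a : Γ((W : Scheme.{u}), ⊤)
  b : Γ((W : Scheme.{u}), ⊤)
  ha : ∀ y, a * y = 0 → y = 0
  hb : ∀ y, b * y = 0 → y = 0
  hab : ∀ y, a ∣ b * y → a ∣ y
  le : (W : Scheme.{u}).basicOpen a ⊔ (W : Scheme.{u}).basicOpen b ≤ W.ι ⁻¹ᵁ U

theorem exists_regular_of_idealDepth {R : Type u} [CommRing R] (J : Ideal R) (hJ : J ≠ ⊤)
    (h : (2 : ℕ∞) ≤ LocCoh.idealDepth J R) :
    ∃ r₁ ∈ J, ∃ r₂ ∈ J, IsWeaklyRegular R [r₁, r₂] := by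
  obtain ⟨rs, hlen, hrs, hmem⟩ : ∃ rs : List R, 2 ≤ rs.length ∧ IsWeaklyRegular R rs ∧ ∀ r ∈ rs, r ∈ J := by
    by_contra H
    push Not at H
    have hle : LocCoh.idealDepth J R ≤ ((1 : ℕ) : ℕ∞) := by
      rw [LocCoh.idealDepth, if_neg (by rwa [smul_eq_mul, Ideal.mul_top])]
      refine iSup₂_le fun rs hrs => ?_
      rw [Nat.cast_le]
      by_contra hlt
      obtain ⟨r, hr, hr'⟩ := H rs (by omega) hrs.1
      exact hr' (hrs.2 r hr)
    exact absurd (h.trans hle) (by decide)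
  obtain ⟨r₁, r₂, l, rfl⟩ : ∃ r₁ r₂ l, rs = r₁ :: r₂ :: l := by
    rcases rs with _ | ⟨r₁, _ | ⟨r₂, l⟩⟩
    · simp at hlen
    · simp at hlen
    · exact ⟨r₁, r₂, l, rfl⟩
  refine ⟨r₁, hmem _ (by simp), r₂, hmem _ (by simp), ?_⟩
  rw [isWeaklyRegular_cons_iff] at hrs ⊢
  rw [isWeaklyRegular_cons_iff] at hrs
  exact ⟨hrs.1, by rw [isWeaklyRegular_singleton_iff]; exact hrs.2.1⟩

variable (f : P ⟶ S) [Smooth f] (U : P.Opens)

theorem exists_fibre_pair (hU : ∀ x : P, x ∉ U → (2 : WithBot ℕ∞) ≤ ringKrullDim ↑(CInt.fiberStalk f x))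
    (s : S) (y : f.fiber s) (hy : f.fiberι s y ∉ U) (W : P.Opens) (hW : IsAffineOpen W)
    (hyW : f.fiberι s y ∈ W) :
    ∃ c₁ ∈ (openIdeal U W).map (P.presheaf.germ W _ hyW).hom, ∃ c₂ ∈ (openIdeal U W).map (P.presheaf.germ W _ hyW).hom,
      ∀ hs : List (P.presheaf.stalk (f.fiberι s y)), hs = [c₁, c₂] ∨ hs = [c₂] →
        IsWeaklyRegular
          (P.presheaf.stalk (f.fiberι s y) ⧸ Ideal.map (f.stalkMap (f.fiberι s y)).hom
            (IsLocalRing.maximalIdeal (S.presheaf.stalk (f (f.fiberι s y)))))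
          (hs.map (Ideal.Quotient.mk (Ideal.map (f.stalkMap (f.fiberι s y)).hom
            (IsLocalRing.maximalIdeal (S.presheaf.stalk (f (f.fiberι s y))))))) := by
  classical
  haveI hsm : Smooth (f.fiberToSpecResidueField s) := MorphismProperty.pullback_snd f _ inferInstance
  let F := (f.fiber s).presheaf.stalk y
  haveI := @Groth.L21.Smooth.regular_stalk _ _ _ (f.fiberToSpecResidueField s) hsm y
  haveI := Groth.L04.isCohenMacaulayLocalRing_of_regular F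
  haveI : IsDomain F := Groth.L01.isDomain_of_regular F
  obtain ⟨hρs, hρk⟩ := Groth.L18.stalkMap_fiberι f s y
  let ρ := ((f.fiberι s).stalkMap y).hom
  let J₀ := (openIdeal U W).map (P.presheaf.germ W _ hyW).hom
  let J := J₀.map ρ
  have hJ₀ : J₀ ≤ IsLocalRing.maximalIdeal (P.presheaf.stalk (f.fiberι s y)) := by
    refine Ideal.map_le_iff_le_comap.2 fun g hg => ?_
    rw [Ideal.mem_comap, IsLocalRing.mem_maximalIdeal]
    exact fun hu => hy (hg ((Scheme.mem_basicOpen _ g _ hyW).2 hu))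
  have hJ : J ≤ IsLocalRing.maximalIdeal F := by
    refine (Ideal.map_mono hJ₀).trans (Ideal.map_le_iff_le_comap.2 fun c hc => ?_)
    rw [Ideal.mem_comap, IsLocalRing.mem_maximalIdeal]
    exact fun hu => (IsLocalRing.mem_maximalIdeal _).1 hc
      (isUnit_of_map_unit ((f.fiberι s).stalkMap y).hom c hu)
  have hJne : J ≠ ⊤ := ne_top_of_le_ne_top (IsLocalRing.maximalIdeal.isMaximal F).ne_top hJ
  have hdim : ∀ (η : f.fiber s),
      ringKrullDim ↑((f.fiber s).presheaf.stalk η) = ringKrullDim ↑(CInt.fiberStalk f (f.fiberι s η)) := by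
    intro η
    obtain ⟨e₁⟩ := Groth.L07.CIScheme.exists_fiberStalkEquiv f s η _ rfl
    obtain ⟨e₂⟩ := Groth.L07.CIScheme.exists_fiberStalkEquiv f (f (f.fiberι s η)) (f.asFiber _) _
      (f.fiberι_asFiber (f.fiberι s η))
    exact ringKrullDim_eq_of_ringEquiv (e₁.symm.trans e₂)
  have hht : (2 : ℕ∞) ≤ J.height := by
    rw [Ideal.height_eq_inf_minimalPrimes]
    refine le_iInf₂ fun Q hQ => ?_
    haveI : Q.IsPrime := hQ.1.1
    let P₀ : PrimeSpectrum F := ⟨Q, inferInstance⟩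
    let η := (f.fiber s).fromSpecStalk y P₀
    have hηy : η ⤳ y := Groth.L07.EquidimPoint.specializes_point y P₀
    have hη : f.fiberι s η ∉ U := by
      intro hηU
      have hηW : f.fiberι s η ∈ W := (hηy.map (f.fiberι s).continuous).mem_open W.2 hyW
      obtain ⟨g, hgle, hgη⟩ := hW.exists_basicOpen_le (V := U ⊓ W) ⟨_, hηU, hηW⟩ hηW
      have hgI : g ∈ openIdeal U W := fun z hz => (hgle hz).1
      have hmem : ρ (P.presheaf.germ W _ hyW g) ∈ Q := hQ.1.2 (Ideal.mem_map_of_mem _ (Ideal.mem_map_of_mem _ hgI))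
      let g' : Γ(f.fiber s, f.fiberι s ⁻¹ᵁ W) := (f.fiberι s).app W g
      have hgη' : η ∈ (f.fiber s).basicOpen g' := by
        rw [← Scheme.preimage_basicOpen]
        exact hgη
      have h2 : P₀ ∈ ((f.fiber s).fromSpecStalk y) ⁻¹ᵁ (f.fiber s).basicOpen g' := hgη'
      rw [Scheme.preimage_basicOpen, Scheme.fromSpecStalk_app (show y ∈ f.fiberι s ⁻¹ᵁ W from hyW),
        CommRingCat.comp_apply, CommRingCat.comp_apply, Scheme.basicOpen_res, basicOpen_eq_of_affine] at h2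
      refine h2.2 ?_
      have e : ρ (P.presheaf.germ W _ hyW g) = (f.fiber s).presheaf.germ (f.fiberι s ⁻¹ᵁ W) y hyW g' :=
        Scheme.Hom.germ_stalkMap_apply _ W y hyW g
      rw [e] at hmem
      exact hmem
    have h3 := hU _ hη
    rw [← hdim η, Groth.L06.RegularSeqCodim.dim_stalk_fromSpecStalk y P₀] at h3
    exact WithBot.coe_le_coe.1 h3
  obtain ⟨r₁, hr₁, r₂, hr₂, hreg⟩ := exists_regular_of_idealDepth J hJne
    (by rw [Groth.L04.Tight.height_eq_idealDepth hJne]; exact hht)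
  obtain ⟨c₁, hc₁, rfl⟩ := (Ideal.mem_map_iff_of_surjective ρ hρs).1 hr₁
  obtain ⟨c₂, hc₂, rfl⟩ := (Ideal.mem_map_iff_of_surjective ρ hρs).1 hr₂
  refine ⟨c₁, hc₁, c₂, hc₂, fun hs hhs => ?_⟩
  have hone : IsWeaklyRegular F [ρ c₂] := by
    rw [isWeaklyRegular_singleton_iff]
    refine IsSMulRegular.of_ne_zero fun h0 => ?_
    rw [isWeaklyRegular_cons_iff, isWeaklyRegular_singleton_iff] at hreg
    have hsub : Subsingleton (QuotSMulTop (ρ c₁) F) :=
      IsSMulRegular.zero_iff_subsingleton.1 (h0 ▸ hreg.2)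
    rw [Submodule.Quotient.subsingleton_iff] at hsub
    refine hJne (eq_top_iff.2 fun z _ => ?_)
    have hz := (SetLike.ext_iff.1 hsub z).2 Submodule.mem_top
    obtain ⟨w, -, rfl⟩ := (Submodule.mem_smul_pointwise_iff_exists _ _ _).1 hz
    exact J.mul_mem_right _ (Ideal.mem_map_of_mem _ hc₁)
  let e : (P.presheaf.stalk (f.fiberι s y) ⧸ Ideal.map (f.stalkMap (f.fiberι s y)).hom
      (IsLocalRing.maximalIdeal (S.presheaf.stalk (f (f.fiberι s y))))) ≃+* F :=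
    (Ideal.quotEquivOfEq hρk.symm).trans (RingHom.quotientKerEquivOfSurjective hρs)
  have he : ∀ c, e (Ideal.Quotient.mk _ c) = ρ c := fun c => rfl
  have hfin : ∀ l : List (P.presheaf.stalk (f.fiberι s y)), IsWeaklyRegular F (l.map ρ) →
      IsWeaklyRegular _ (l.map (Ideal.Quotient.mk (Ideal.map (f.stalkMap (f.fiberι s y)).hom
        (IsLocalRing.maximalIdeal (S.presheaf.stalk (f (f.fiberι s y))))))) := fun l hl => by
    have h' := L02.CAlg.QFSlice.isWeaklyRegular_map_equiv e.symm hl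
    rw [List.map_map] at h'
    convert h' using 2
    funext c
    exact (e.symm_apply_eq.2 (he c).symm).symm
  rcases hhs with rfl | rfl
  · exact hfin [c₁, c₂] hreg
  · exact hfin [c₂] hone

theorem exists_nhd_basicOpen_le (W : P.Opens) (hW : IsAffineOpen W) (x : P) (hxW : x ∈ W) (V : P.Opens)
    (hxV : x ∈ V) (t : Γ(P, V)) (ht : P.presheaf.germ V x hxV t ∈ (openIdeal U W).map (P.presheaf.germ W x hxW).hom) :
    ∃ O : P.Opens, x ∈ O ∧ O ⊓ P.basicOpen t ≤ U := by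
  letI := P.presheaf.algebra_section_stalk ⟨x, hxW⟩
  haveI := hW.isLocalization_stalk ⟨x, hxW⟩
  obtain ⟨⟨⟨g, hg⟩, σ⟩, he⟩ := (IsLocalization.mem_map_algebraMap_iff (hW.primeIdealOf ⟨x, hxW⟩).asIdeal.primeCompl
    (P.presheaf.stalk x)).1 ht
  have hσ : IsUnit (P.presheaf.germ W x hxW σ.1) := IsLocalization.map_units (P.presheaf.stalk x) σ
  have he' : P.presheaf.germ (V ⊓ W) x ⟨hxV, hxW⟩ (P.presheaf.map (homOfLE inf_le_left).op t *
      P.presheaf.map (homOfLE inf_le_right).op σ.1) =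
      P.presheaf.germ (V ⊓ W) x ⟨hxV, hxW⟩ (P.presheaf.map (homOfLE inf_le_right).op g) := by
    rw [map_mul, P.presheaf.germ_res_apply, P.presheaf.germ_res_apply, P.presheaf.germ_res_apply]
    exact he
  obtain ⟨O, hxO, i₁, i₂, hO⟩ := P.presheaf.germ_eq x _ _ _ _ he'
  refine ⟨O ⊓ P.basicOpen σ.1, ⟨hxO, (Scheme.mem_basicOpen _ _ _ hxW).2 hσ⟩, fun z hz => hg ?_⟩
  obtain ⟨⟨hzO, (hzσ : z ∈ P.basicOpen σ.1)⟩, (hzt : z ∈ P.basicOpen t)⟩ := hz
  have hzVW : z ∈ V ⊓ W := i₁.le hzO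
  rw [Scheme.mem_basicOpen _ _ _ hzVW.1] at hzt
  rw [Scheme.mem_basicOpen _ _ _ hzVW.2] at hzσ
  show z ∈ P.basicOpen g
  rw [Scheme.mem_basicOpen _ _ _ hzVW.2]
  have h := congrArg (P.presheaf.germ O z hzO) hO
  rw [P.presheaf.germ_res_apply, P.presheaf.germ_res_apply, map_mul, P.presheaf.germ_res_apply,
    P.presheaf.germ_res_apply, P.presheaf.germ_res_apply] at h
  rw [← h]
  exact hzt.mul hzσ

theorem exists_pair (hU : ∀ x : P, x ∉ U → (2 : WithBot ℕ∞) ≤ ringKrullDim ↑(CInt.fiberStalk f x)) (x : P) :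
    ∃ W : P.Opens, IsAffineOpen W ∧ x ∈ W ∧ Nonempty (Pair U W) := by
  classical
  by_cases hxU : x ∈ U
  · obtain ⟨_, ⟨W, hW, rfl⟩, hxW, hWU⟩ := P.isBasis_affineOpens.exists_subset_of_mem_open hxU U.2
    exact ⟨W, hW, hxW, ⟨⟨1, 1, by simp, by simp, fun y _ => one_dvd y, fun z _ => hWU z.2⟩⟩⟩
  obtain ⟨s, y, rfl⟩ : ∃ s y, f.fiberι s y = x := ⟨_, _, f.fiberι_asFiber x⟩
  obtain ⟨_, ⟨W₀, hW₀, rfl⟩, hyW₀, -⟩ :=
    P.isBasis_affineOpens.exists_subset_of_mem_open (Set.mem_univ (f.fiberι s y)) isOpen_univ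
  obtain ⟨c₁, hc₁, c₂, hc₂, hreg⟩ := exists_fibre_pair f U hU s y hxU W₀ hW₀ hyW₀
  have hmax : ∀ c ∈ (openIdeal U W₀).map (P.presheaf.germ W₀ _ hyW₀).hom,
      c ∈ IsLocalRing.maximalIdeal (P.presheaf.stalk (f.fiberι s y)) := fun c hc => by
    refine (Ideal.map_le_iff_le_comap.2 fun g hg => ?_) hc
    rw [Ideal.mem_comap, IsLocalRing.mem_maximalIdeal]
    exact fun hu => hxU (hg ((Scheme.mem_basicOpen _ g _ hyW₀).2 hu))
  obtain ⟨U₁, hU₁, hy₁, hs₁, -, hmap₁, hreg₁, -⟩ := L02.CAlg.QFSlice.exists_slice f _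
    (AlgebraicGeometry.Flat.stalkMap f _) [c₁, c₂]
      (List.forall_mem_cons.2 ⟨hmax c₁ hc₁, List.forall_mem_singleton.2 (hmax c₂ hc₂)⟩)
    (hreg _ (Or.inl rfl)) W₀ hyW₀
  obtain ⟨U₂, hU₂, hy₂, hs₂, -, hmap₂, hreg₂, -⟩ := L02.CAlg.QFSlice.exists_slice f _
    (AlgebraicGeometry.Flat.stalkMap f _) [c₂] (List.forall_mem_singleton.2 (hmax c₂ hc₂)) (hreg _ (Or.inr rfl)) W₀ hyW₀
  obtain ⟨a₁, b₁, rfl⟩ : ∃ a b, hs₁ = [a, b] := by
    rcases hs₁ with _ | ⟨a, _ | ⟨b, _ | ⟨c, l⟩⟩⟩ <;> simp at hmap₁ ⊢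
  obtain ⟨b₂, rfl⟩ : ∃ b, hs₂ = [b] := by
    rcases hs₂ with _ | ⟨a, _ | ⟨b, l⟩⟩ <;> simp at hmap₂ ⊢
  simp only [List.map_cons, List.map_nil, List.cons.injEq, and_true] at hmap₁ hmap₂
  obtain ⟨Oa, hyOa, hOa⟩ := exists_nhd_basicOpen_le U W₀ hW₀ _ hyW₀ U₁ hy₁ a₁ (hmap₁.1 ▸ hc₁)
  obtain ⟨Ob, hyOb, hOb⟩ := exists_nhd_basicOpen_le U W₀ hW₀ _ hyW₀ U₁ hy₁ b₁ (hmap₁.2 ▸ hc₂)
  obtain ⟨E, hyE, i₁, i₂, hE⟩ := P.presheaf.germ_eq _ hy₁ hy₂ b₁ b₂ (hmap₁.2.trans hmap₂.symm)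
  obtain ⟨_, ⟨W', hW, rfl⟩, hyW, hWO⟩ := P.isBasis_affineOpens.exists_subset_of_mem_open
    (show f.fiberι s y ∈ Oa ⊓ Ob ⊓ E from ⟨⟨hyOa, hyOb⟩, hyE⟩) (Oa ⊓ Ob ⊓ E).2
  let W : P.Opens := W'
  refine ⟨W, hW, hyW, ?_⟩
  haveI : IsAffine (W : Scheme.{u}) := hW
  have hWE : W ≤ E := fun z hz => (hWO hz).2
  have e₁ : (⊤ : (W : Scheme.{u}).Opens) ≤ W.ι ⁻¹ᵁ U₁ := fun z _ => i₁.le (hWE z.2)
  have e₂ : (⊤ : (W : Scheme.{u}).Opens) ≤ W.ι ⁻¹ᵁ U₂ := fun z _ => i₂.le (hWE z.2)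
  have eE : (⊤ : (W : Scheme.{u}).Opens) ≤ W.ι ⁻¹ᵁ E := fun z _ => hWE z.2
  let φ₁ := W.ι.appLE U₁ ⊤ e₁
  let φ₂ := W.ι.appLE U₂ ⊤ e₂
  have hφ₁ : φ₁.hom.Flat := W.ι.flat_appLE hU₁ (isAffineOpen_top _) e₁
  have hφ₂ : φ₂.hom.Flat := W.ι.flat_appLE hU₂ (isAffineOpen_top _) e₂
  have hbb : φ₁ b₁ = φ₂ b₂ := by
    show W.ι.appLE U₁ ⊤ e₁ b₁ = W.ι.appLE U₂ ⊤ e₂ b₂
    rw [← W.ι.map_appLE eE i₁.op, ← W.ι.map_appLE eE i₂.op, CommRingCat.comp_apply, CommRingCat.comp_apply, hE]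
  have h₁ : IsWeaklyRegular Γ((W : Scheme.{u}), ⊤) [φ₁ a₁, φ₁ b₁] := by
    algebraize [φ₁.hom]
    exact IsWeaklyRegular.of_flat (S := Γ((W : Scheme.{u}), ⊤)) hreg₁
  have h₂ : IsWeaklyRegular Γ((W : Scheme.{u}), ⊤) [φ₂ b₂] := by
    algebraize [φ₂.hom]
    exact IsWeaklyRegular.of_flat (S := Γ((W : Scheme.{u}), ⊤)) hreg₂
  rw [isWeaklyRegular_cons_iff, isWeaklyRegular_singleton_iff] at h₁
  rw [isWeaklyRegular_singleton_iff, ← hbb] at h₂
  refine ⟨⟨φ₁ a₁, φ₁ b₁, fun z hz => h₁.1 (by simpa using hz), fun z hz => h₂ (by simpa using hz),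
    fun z hz => ?_, ?_⟩⟩
  · obtain ⟨w, hw⟩ := hz
    have hz0 : φ₁ b₁ • Submodule.Quotient.mk (p := φ₁ a₁ •
        (⊤ : Submodule Γ((W : Scheme.{u}), ⊤) Γ((W : Scheme.{u}), ⊤))) z =
        φ₁ b₁ • (0 : Γ((W : Scheme.{u}), ⊤) ⧸ φ₁ a₁ • (⊤ : Submodule Γ((W : Scheme.{u}), ⊤) Γ((W : Scheme.{u}), ⊤))) := by
      rw [smul_zero, ← Submodule.Quotient.mk_smul, Submodule.Quotient.mk_eq_zero, smul_eq_mul, hw]
      exact (Submodule.mem_smul_pointwise_iff_exists _ _ _).2 ⟨w, Submodule.mem_top, rfl⟩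
    obtain ⟨v, -, hv⟩ := (Submodule.mem_smul_pointwise_iff_exists _ _ _).1
      ((Submodule.Quotient.mk_eq_zero _).1 (h₁.2 hz0))
    exact ⟨v, hv.symm⟩
  · refine sup_le (fun z hz => hOa ⟨(hWO z.2).1.1, ?_⟩) (fun z hz => hOb ⟨(hWO z.2).1.2, ?_⟩)
    · rw [Scheme.basicOpen_appLE] at hz
      exact hz.2
    · rw [Scheme.basicOpen_appLE] at hz
      exact hz.2

variable {f U}

omit [Smooth f] in
/-- Two maps to an affine scheme over `P` agreeing on `U` agree. -/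
theorem eq_of_agree {V Y : Scheme.{u}} [IsAffine V] (p : Y ⟶ P) [IsAffineHom p] (O : V.Opens)
    (hO : Function.Injective O.ι.appTop) (g g' : V ⟶ Y) (hg : g ≫ p = g' ≫ p) (e : O.ι ≫ g = O.ι ≫ g') : g = g' := by
  haveI : IsAffineHom (pullback.snd p (g ≫ p)) := MorphismProperty.pullback_snd p (g ≫ p) inferInstance
  have := Groth.L11.ThetaAff.eq_of_injective O hO (pullback.snd p (g ≫ p))
    (pullback.lift g (𝟙 V) (Category.id_comp _).symm)
    (pullback.lift g' (𝟙 V) (by rw [Category.id_comp, hg]))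
    (pullback.hom_ext (by simp [e]) (by simp))
  simpa using congrArg (· ≫ pullback.fst p (g ≫ p)) this

set_option maxHeartbeats 1000000 in
/-- Sections of an affine morphism extend uniquely across a subset of codimension two in the fibres. -/
theorem existsUnique_extension (f : P ⟶ S) [Smooth f] (U : P.Opens)
    (hU : ∀ x : P, x ∉ U → (2 : WithBot ℕ∞) ≤ ringKrullDim ↑(CInt.fiberStalk f x))
    {Y : Scheme.{u}} (p : Y ⟶ P) [IsAffineHom p] (s : (U : Scheme.{u}) ⟶ Y) (hs : s ≫ p = U.ι) :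
    ∃! t : P ⟶ Y, t ≫ p = 𝟙 P ∧ U.ι ≫ t = s := by
  classical
  choose W hW hxW hpair using exists_pair f U hU
  let D : ∀ x, Pair U (W x) := fun x => (hpair x).some
  haveI : ∀ x, IsAffine (W x : Scheme.{u}) := hW
  -- an open of an affine piece on which restriction from the affine piece is injective
  have hinj : ∀ (x : P) {V : Scheme.{u}} [IsAffine V] (v : V ⟶ (W x : Scheme.{u})) [IsOpenImmersion v],
      Function.Injective (v ⁻¹ᵁ ((W x).ι ⁻¹ᵁ U)).ι.appTop := fun x V _ v _ =>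
    Groth.L11.ThetaAff.injective_flat_preimage v (D x).a (D x).ha _
      (v.preimage_mono ((le_sup_left).trans (D x).le))
  -- two maps over `P` out of an affine piece agreeing on `U` agree
  have huniq : ∀ (x : P) {V : Scheme.{u}} [IsAffine V] (v : V ⟶ (W x : Scheme.{u})) [IsOpenImmersion v]
      (g g' : V ⟶ Y), g ≫ p = v ≫ (W x).ι → g' ≫ p = v ≫ (W x).ι →
      (v ⁻¹ᵁ ((W x).ι ⁻¹ᵁ U)).ι ≫ g = (v ⁻¹ᵁ ((W x).ι ⁻¹ᵁ U)).ι ≫ g' → g = g' :=
    fun x V _ v _ g g' hg hg' e => eq_of_agree p _ (hinj x v) g g' (hg.trans hg'.symm) e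
  have hext : ∀ x : P, ∃ g : (W x : Scheme.{u}) ⟶ Y, g ≫ p = (W x).ι ∧
      ∀ {V : Scheme.{u}} (v : V ⟶ (W x : Scheme.{u})) (j : V ⟶ (U : Scheme.{u})),
        v ≫ (W x).ι = j ≫ U.ι → v ≫ g = j ≫ s := fun x => by
    let O := (W x : Scheme.{u}).basicOpen (D x).a ⊔ (W x : Scheme.{u}).basicOpen (D x).b
    have hr : Set.range (O.ι ≫ (W x).ι) ⊆ Set.range U.ι := by
      rintro _ ⟨z, rfl⟩
      rw [Scheme.Opens.range_ι, Scheme.Hom.comp_apply]
      exact (D x).le z.2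
    let j₀ := IsOpenImmersion.lift U.ι (O.ι ≫ (W x).ι) hr
    have hj₀ : j₀ ≫ U.ι = O.ι ≫ (W x).ι := IsOpenImmersion.lift_fac _ _ _
    haveI : IsAffineHom (pullback.snd p (W x).ι) := MorphismProperty.pullback_snd p _ inferInstance
    obtain ⟨g, ⟨hg₁, hg₂⟩, -⟩ := Groth.L11.ThetaAff.existsUnique_extend O
      (Groth.L11.ThetaAff.ι_appTop_bijective _ (Groth.L11.ThetaAff.hartogs _ _ (D x).ha (D x).hb (D x).hab))
      (pullback.snd p (W x).ι)
      (pullback.lift (j₀ ≫ s) O.ι (by rw [Category.assoc, hs, hj₀])) (pullback.lift_snd _ _ _)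
    have hgp : (g ≫ pullback.fst p (W x).ι) ≫ p = (W x).ι := by
      rw [Category.assoc, pullback.condition, reassoc_of% hg₁]
    refine ⟨g ≫ pullback.fst p (W x).ι, hgp, fun {V} v j hv => ?_⟩
    -- factor `v` through the preimage of `U` and check on an affine cover
    have hv' : Set.range v ⊆ Set.range ((W x).ι ⁻¹ᵁ U).ι := by
      rintro _ ⟨z, rfl⟩
      rw [Scheme.Opens.range_ι]
      show (W x).ι (v z) ∈ U
      rw [← Scheme.Hom.comp_apply, hv, Scheme.Hom.comp_apply]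
      exact (j z).2
    let v₁ := IsOpenImmersion.lift ((W x).ι ⁻¹ᵁ U).ι v hv'
    have hv₁ : v₁ ≫ ((W x).ι ⁻¹ᵁ U).ι = v := IsOpenImmersion.lift_fac _ _ _
    let V₀ := (((W x).ι ⁻¹ᵁ U : (W x : Scheme.{u}).Opens) : Scheme.{u})
    let jU : V₀ ⟶ (U : Scheme.{u}) := (W x).ι ∣_ U
    have hjU : jU ≫ U.ι = ((W x).ι ⁻¹ᵁ U).ι ≫ (W x).ι := morphismRestrict_ι _ _
    have key : ((W x).ι ⁻¹ᵁ U).ι ≫ g ≫ pullback.fst p (W x).ι = jU ≫ s := by
      refine Scheme.Cover.hom_ext V₀.affineCover _ _ fun i => ?_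
      let c : V₀.affineCover.X i ⟶ (W x : Scheme.{u}) := V₀.affineCover.f i ≫ ((W x).ι ⁻¹ᵁ U).ι
      -- restriction to the preimage of the two basic opens is injective
      have hinj' : Function.Injective (c ⁻¹ᵁ O).ι.appTop :=
        Groth.L11.ThetaAff.injective_flat_preimage c (D x).a (D x).ha _ (c.preimage_mono le_sup_left)
      refine eq_of_agree p _ hinj' _ _ ?_ ?_
      · simp only [Category.assoc] at hgp ⊢
        rw [hgp, hs, hjU]
      · have hfac : (c ⁻¹ᵁ O).ι ≫ c = (c ∣_ O) ≫ O.ι := (morphismRestrict_ι c O).symm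
        have hj₁ : (c ⁻¹ᵁ O).ι ≫ V₀.affineCover.f i ≫ jU = (c ∣_ O) ≫ j₀ := by
          rw [← cancel_mono U.ι]
          simp only [Category.assoc]
          rw [hjU, hj₀, ← reassoc_of% hfac]
          simp only [c, Category.assoc]
        calc (c ⁻¹ᵁ O).ι ≫ V₀.affineCover.f i ≫ ((W x).ι ⁻¹ᵁ U).ι ≫ g ≫ pullback.fst p (W x).ι
            = ((c ⁻¹ᵁ O).ι ≫ c) ≫ g ≫ pullback.fst p (W x).ι := by simp [c]
          _ = (c ∣_ O) ≫ (O.ι ≫ g) ≫ pullback.fst p (W x).ι := by rw [hfac]; simp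
          _ = ((c ∣_ O) ≫ j₀) ≫ s := by rw [hg₂, pullback.lift_fst]; simp
          _ = _ := by rw [← hj₁]; simp
    have hj : v₁ ≫ jU = j := by
      rw [← cancel_mono U.ι, Category.assoc, hjU, ← Category.assoc, hv₁, hv]
    rw [← hv₁, Category.assoc, key, ← Category.assoc, hj]
  choose g hgp hgU using hext
  have hcov : IsOpenCover W := IsOpenCover.mk (eq_top_iff.2 fun x _ => Opens.mem_iSup.2 ⟨x, hxW x⟩)
  let 𝒰 := Scheme.openCoverOfIsOpenCover P W hcov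
  have hglue : ∀ x x', pullback.fst (𝒰.f x) (𝒰.f x') ≫ g x = pullback.snd (𝒰.f x) (𝒰.f x') ≫ g x' := fun x x' => by
    let V₀ := pullback (𝒰.f x) (𝒰.f x')
    refine Scheme.Cover.hom_ext V₀.affineCover _ _ fun i => ?_
    let v := V₀.affineCover.f i ≫ pullback.fst (𝒰.f x) (𝒰.f x')
    haveI : IsOpenImmersion v := inferInstance
    refine huniq x v _ _ ?_ ?_ ?_
    · simp only [v, Category.assoc, hgp]
    · simp only [v, Category.assoc, hgp]
      exact congrArg (V₀.affineCover.f i ≫ ·) pullback.condition.symm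
    · let O := v ⁻¹ᵁ ((W x).ι ⁻¹ᵁ U)
      let j : (O : Scheme.{u}) ⟶ (U : Scheme.{u}) := (v ∣_ ((W x).ι ⁻¹ᵁ U)) ≫ ((W x).ι ∣_ U)
      have hj : O.ι ≫ v ≫ (W x).ι = j ≫ U.ι := by
        simp only [j, Category.assoc, morphismRestrict_ι]
        rw [← morphismRestrict_ι_assoc]
      have hj' : O.ι ≫ (V₀.affineCover.f i ≫ pullback.snd (𝒰.f x) (𝒰.f x')) ≫ (W x').ι = j ≫ U.ι := by
        rw [← hj]
        simp only [v, Category.assoc]
        exact congrArg (O.ι ≫ V₀.affineCover.f i ≫ ·) pullback.condition.symm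
      have e₁ := hgU x (O.ι ≫ v) j (by rw [Category.assoc, hj])
      have e₂ := hgU x' (O.ι ≫ V₀.affineCover.f i ≫ pullback.snd (𝒰.f x) (𝒰.f x')) j
        (by rw [Category.assoc, hj'])
      simp only [v, Category.assoc] at e₁ e₂
      exact e₁.trans e₂.symm
  refine ⟨Scheme.Cover.glueMorphisms 𝒰 g hglue, ⟨?_, ?_⟩, ?_⟩
  · refine Scheme.Cover.hom_ext 𝒰 _ _ fun x => ?_
    rw [← Category.assoc, Scheme.Cover.ι_glueMorphisms, hgp, Category.comp_id]
    rfl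
  · refine Scheme.Cover.hom_ext (𝒰.pullback₁ U.ι) _ _ fun x => ?_
    show pullback.fst U.ι (𝒰.f x) ≫ U.ι ≫ _ = pullback.fst U.ι (𝒰.f x) ≫ s
    rw [pullback.condition_assoc, Scheme.Cover.ι_glueMorphisms]
    exact hgU x _ _ pullback.condition.symm
  · rintro t ⟨ht₁, ht₂⟩
    refine Scheme.Cover.hom_ext 𝒰 _ _ fun x => ?_
    rw [Scheme.Cover.ι_glueMorphisms]
    refine huniq x (𝟙 (W x : Scheme.{u})) _ _ ?_ ?_ ?_
    · rw [Category.assoc, ht₁, Category.comp_id, Category.id_comp]; rfl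
    · rw [hgp, Category.id_comp]
    · let O := (𝟙 (W x : Scheme.{u})) ⁻¹ᵁ ((W x).ι ⁻¹ᵁ U)
      let j : (O : Scheme.{u}) ⟶ (U : Scheme.{u}) := IsOpenImmersion.lift U.ι (O.ι ≫ (W x).ι) (by
        rintro _ ⟨z, rfl⟩
        rw [Scheme.Opens.range_ι, Scheme.Hom.comp_apply]
        exact z.2)
      have hj : O.ι ≫ (W x).ι = j ≫ U.ι := (IsOpenImmersion.lift_fac _ _ _).symm
      rw [hgU x O.ι j hj, ← ht₂, ← reassoc_of% hj]
      rfl

end Groth.L02.RhoExt
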