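import Mathlib.AlgebraicGeometry.Sites.Fpqc
import Mathlib.AlgebraicGeometry.Morphisms.Flat
import Mathlib.AlgebraicGeometry.Morphisms.FinitePresentation
import Mathlib.AlgebraicGeometry.PullbackCarrier
import Mathlib.AlgebraicGeometry.Limits

/-!
Extensions of a morphism given on an open: behaviour under base change and descent.
-/

set_option autoImplicit false
set_option linter.style.haveILetI false
set_option linter.unusedSectionVars false
set_option backward.isDefEq.respectTransparency false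

universe u

open CategoryTheory CategoryTheory.Limits AlgebraicGeometry

noncomputable section

namespace Groth.L02.RhoExt

variable {P S Y : Scheme.{u}} (q : P ⟶ S) (Q : P.Opens) (p : Y ⟶ P) (s : (Q : Scheme.{u}) ⟶ Y)

/-- `f` lifts `w` and agrees with `s` over `Q`. -/
structure IsLift {W : Scheme.{u}} (w : W ⟶ P) (f : W ⟶ Y) : Prop where
  over' : f ≫ p = w
  agree : ∀ {W' : Scheme.{u}} (v : W' ⟶ W) (v₀ : W' ⟶ (Q : Scheme.{u})), v ≫ w = v₀ ≫ Q.ι → v ≫ f = v₀ ≫ s

def Lifts {W : Scheme.{u}} (w : W ⟶ P) : Prop := ∃ f, IsLift Q p s w f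

def Uniq {W : Scheme.{u}} (w : W ⟶ P) : Prop := ∀ f f', IsLift Q p s w f → IsLift Q p s w f' → f = f'

variable {Q p s}

theorem IsLift.comp {W W' : Scheme.{u}} {w : W ⟶ P} {f : W ⟶ Y} (h : IsLift Q p s w f) (v : W' ⟶ W) :
    IsLift Q p s (v ≫ w) (v ≫ f) :=
  ⟨by rw [Category.assoc, h.over'], fun x x₀ hx => by
    rw [← Category.assoc]; exact h.agree (x ≫ v) x₀ (by rw [Category.assoc, hx])⟩

theorem Lifts.comp {W W' : Scheme.{u}} {w : W ⟶ P} (h : Lifts Q p s w) (v : W' ⟶ W) : Lifts Q p s (v ≫ w) :=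
  ⟨_, h.choose_spec.comp v⟩

theorem Uniq.of_epi {W W' : Scheme.{u}} {w : W ⟶ P} (v : W' ⟶ W) [Epi v] (h : Uniq Q p s (v ≫ w)) :
    Uniq Q p s w := fun _ _ h₁ h₂ => (cancel_epi v).1 (h _ _ (h₁.comp v) (h₂.comp v))

theorem Uniq.congr {W : Scheme.{u}} {w w' : W ⟶ P} (h : Uniq Q p s w) (e : w = w') : Uniq Q p s w' := e ▸ h

theorem Uniq.of_openCover {W : Scheme.{u}} {w : W ⟶ P} (𝒰 : W.OpenCover) (h : ∀ i, Uniq Q p s (𝒰.f i ≫ w)) :
    Uniq Q p s w := fun _ _ h₁ h₂ =>
  Scheme.Cover.hom_ext 𝒰 _ _ fun i => h i _ _ (h₁.comp _) (h₂.comp _)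

theorem Lifts.descend {W W' : Scheme.{u}} {w : W ⟶ P} (v : W' ⟶ W) [Flat v] [Surjective v]
    [LocallyOfFinitePresentation v] (hu : Uniq Q p s (pullback.fst v v ≫ v ≫ w)) (h : Lifts Q p s (v ≫ w)) :
    Lifts Q p s w := by
  obtain ⟨f', hf'⟩ := h
  have hd : ∀ {Z : Scheme.{u}} (g₁ g₂ : Z ⟶ W'), g₁ ≫ v = g₂ ≫ v → g₁ ≫ f' = g₂ ≫ f' := fun g₁ g₂ e => by
    have hs : pullback.snd v v ≫ v ≫ w = pullback.fst v v ≫ v ≫ w := (pullback.condition_assoc _).symm
    have := hu _ _ (hf'.comp (pullback.fst v v)) (hs ▸ hf'.comp (pullback.snd v v))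
    rw [← pullback.lift_fst g₁ g₂ e, Category.assoc, this, pullback.lift_snd_assoc]
  haveI : Epi v := Flat.epi_of_flat_of_surjective v
  refine ⟨EffectiveEpi.desc v f' hd, (cancel_epi v).1 (by rw [EffectiveEpi.fac_assoc, hf'.over']), fun x x₀ hx => ?_⟩
  haveI : Epi (pullback.fst x v) := Flat.epi_of_flat_of_surjective _
  refine (cancel_epi (pullback.fst x v)).1 ?_
  rw [pullback.condition_assoc, EffectiveEpi.fac, ← Category.assoc]
  exact hf'.agree _ _ (by rw [← pullback.condition_assoc, hx, Category.assoc])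

theorem Lifts.of_openCover {W : Scheme.{u}} {w : W ⟶ P} (𝒰 : W.OpenCover)
    (hu : ∀ i j, Uniq Q p s (pullback.fst (𝒰.f i) (𝒰.f j) ≫ 𝒰.f i ≫ w)) (h : ∀ i, Lifts Q p s (𝒰.f i ≫ w)) :
    Lifts Q p s w := by
  choose f hf using h
  refine ⟨Scheme.Cover.glueMorphisms 𝒰 f fun i j => ?_, ?_, fun x x₀ hx => ?_⟩
  · have hs : pullback.snd (𝒰.f i) (𝒰.f j) ≫ 𝒰.f j ≫ w = pullback.fst (𝒰.f i) (𝒰.f j) ≫ 𝒰.f i ≫ w :=
      (pullback.condition_assoc _).symm
    exact hu i j _ _ ((hf i).comp _) (hs ▸ (hf j).comp (pullback.snd _ _))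
  · refine Scheme.Cover.hom_ext 𝒰 _ _ fun i => ?_
    rw [← Category.assoc, Scheme.Cover.ι_glueMorphisms, (hf i).over']
  · refine Scheme.Cover.hom_ext (𝒰.pullback₁ x) _ _ fun i => ?_
    show pullback.fst x (𝒰.f i) ≫ x ≫ _ = pullback.fst x (𝒰.f i) ≫ x₀ ≫ s
    rw [pullback.condition_assoc, Scheme.Cover.ι_glueMorphisms, ← Category.assoc]
    exact (hf i).agree _ _ (by rw [← pullback.condition_assoc, hx, Category.assoc])

variable (Q p s)

/-- The lift exists over the base change along `g`. -/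
def LT {T : Scheme.{u}} (g : T ⟶ S) : Prop := Lifts Q p s (pullback.fst q g)

/-- Lifts are unique over the base change along `g`. -/
def UT {T : Scheme.{u}} (g : T ⟶ S) : Prop := Uniq Q p s (pullback.fst q g)

variable {q Q p s}

theorem isPullback_map {T T' : Scheme.{u}} (g : T ⟶ S) (k : T' ⟶ T) :
    IsPullback (pullback.fst (pullback.snd q g) k ≫ pullback.fst q g) (pullback.snd (pullback.snd q g) k) q (k ≫ g) :=
  (IsPullback.of_hasPullback (pullback.snd q g) k).paste_horiz (IsPullback.of_hasPullback q g)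

theorem UT.uniq {T : Scheme.{u}} {g : T ⟶ S} (h : UT q Q p s g) {W : Scheme.{u}} {a : W ⟶ P} {b : W ⟶ T}
    (sq : IsPullback a b q g) : Uniq Q p s a := fun f f' hf hf' => by
  let e := sq.isoPullback
  have he : e.inv ≫ a = pullback.fst q g := sq.isoPullback_inv_fst
  exact (cancel_epi e.inv).1 (h _ _ (he ▸ hf.comp e.inv) (he ▸ hf'.comp e.inv))

theorem LT.of_isPullback {T : Scheme.{u}} {g : T ⟶ S} {W : Scheme.{u}} {a : W ⟶ P} {b : W ⟶ T}
    (sq : IsPullback a b q g) (h : Lifts Q p s a) : LT q Q p s g := by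
  show Lifts Q p s (pullback.fst q g)
  rw [← sq.isoPullback_inv_fst]
  exact h.comp _

theorem LT.lifts {T : Scheme.{u}} {g : T ⟶ S} (h : LT q Q p s g) {W : Scheme.{u}} {a : W ⟶ P} {b : W ⟶ T}
    (sq : IsPullback a b q g) : Lifts Q p s a := by
  rw [← sq.isoPullback_hom_fst]
  exact Lifts.comp h _

theorem LT.comp {T T' : Scheme.{u}} {g : T ⟶ S} (h : LT q Q p s g) (k : T' ⟶ T) : LT q Q p s (k ≫ g) :=
  LT.of_isPullback (isPullback_map g k) (Lifts.comp h _)

theorem UT.of_cover {T T' : Scheme.{u}} {g : T ⟶ S} (k : T' ⟶ T) [Flat k] [Surjective k]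
    (h : UT q Q p s (k ≫ g)) : UT q Q p s g := by
  haveI : Epi (pullback.fst (pullback.snd q g) k) := Flat.epi_of_flat_of_surjective _
  exact Uniq.of_epi (pullback.fst (pullback.snd q g) k) (h.uniq (isPullback_map g k))

theorem UT.of_openCover {T : Scheme.{u}} {g : T ⟶ S} (𝒰 : T.OpenCover) (h : ∀ i, UT q Q p s (𝒰.f i ≫ g)) :
    UT q Q p s g :=
  Uniq.of_openCover (𝒰.pullback₁ (pullback.snd q g)) fun i => (h i).uniq (isPullback_map g (𝒰.f i))

theorem LT.descend {T T' : Scheme.{u}} {g : T ⟶ S} (k : T' ⟶ T) [Flat k] [Surjective k]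
    [LocallyOfFinitePresentation k] (hu : UT q Q p s (pullback.fst k k ≫ k ≫ g)) (h : LT q Q p s (k ≫ g)) :
    LT q Q p s g := by
  let v := pullback.fst (pullback.snd q g) k
  refine Lifts.descend v ?_ (LT.lifts h (isPullback_map g k))
  have sq₁ := IsPullback.of_hasPullback (pullback.snd q g) k
  have sq₂ := IsPullback.of_hasPullback v v
  let m : pullback v v ⟶ pullback k k := pullback.map v v k k (pullback.snd (pullback.snd q g) k)
    (pullback.snd (pullback.snd q g) k) (pullback.snd q g) sq₁.w sq₁.w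
  have hsq : IsPullback (pullback.fst v v ≫ v ≫ pullback.fst q g) m q (pullback.fst k k ≫ k ≫ g) := by
    have t₁ : IsPullback (pullback.fst v v ≫ v) m (pullback.snd q g) (pullback.fst k k ≫ k) := by
      refine IsPullback.paste_horiz ?_ sq₁
      refine (IsPullback.of_right ?_ (pullback.lift_fst _ _ _) (IsPullback.of_hasPullback k k).flip).flip
      rw [pullback.lift_snd, ← sq₁.w]
      exact sq₂.flip.paste_horiz sq₁.flip
    have t₂ := t₁.paste_horiz (IsPullback.of_hasPullback q g)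
    rwa [Category.assoc, Category.assoc] at t₂
  exact hu.uniq hsq

theorem LT.of_openCover {T : Scheme.{u}} {g : T ⟶ S} (𝒰 : T.OpenCover)
    (hu : ∀ i j, UT q Q p s (pullback.fst (𝒰.f i) (𝒰.f j) ≫ 𝒰.f i ≫ g)) (h : ∀ i, LT q Q p s (𝒰.f i ≫ g)) :
    LT q Q p s g := by
  refine Lifts.of_openCover (𝒰.pullback₁ (pullback.snd q g)) (fun i j => ?_) fun i =>
    LT.lifts (h i) (isPullback_map g (𝒰.f i))
  let π := pullback.snd q g
  let vi := pullback.fst π (𝒰.f i)
  let vj := pullback.fst π (𝒰.f j)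
  show Uniq Q p s (pullback.fst vi vj ≫ vi ≫ pullback.fst q g)
  have sqi := IsPullback.of_hasPullback π (𝒰.f i)
  have sqj := IsPullback.of_hasPullback π (𝒰.f j)
  let m : pullback vi vj ⟶ pullback (𝒰.f i) (𝒰.f j) :=
    pullback.map vi vj (𝒰.f i) (𝒰.f j) (pullback.snd _ _) (pullback.snd _ _) π sqi.w sqj.w
  have t₁ : IsPullback (pullback.fst vi vj ≫ vi) m π (pullback.fst (𝒰.f i) (𝒰.f j) ≫ 𝒰.f i) := by
    refine IsPullback.paste_horiz ?_ sqi
    refine (IsPullback.of_right ?_ (pullback.lift_fst _ _ _) (IsPullback.of_hasPullback (𝒰.f i) (𝒰.f j)).flip).flip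
    rw [pullback.lift_snd, ← sqi.w]
    exact (IsPullback.of_hasPullback vi vj).flip.paste_horiz sqj.flip
  have t₂ := t₁.paste_horiz (IsPullback.of_hasPullback q g)
  rw [Category.assoc, Category.assoc] at t₂
  exact (hu i j).uniq t₂

end Groth.L02.RhoExt
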