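import Groth.Agent.L02.VanishFP.Affine
import Groth.Agent.L02.RelCartier.Main
import Groth.Agent.L20.RG.PureProj
import Groth.Prelude.Def_FGA
import Mathlib.AlgebraicGeometry.Morphisms.UniversallyOpen

/-!
An affine étale chart on which an effective Cartier divisor is principal, and projective covers of it.
-/

set_option autoImplicit false
set_option linter.style.haveILetI false
set_option linter.unusedSectionVars false
set_option backward.isDefEq.respectTransparency false

universe u

open CategoryTheory CategoryTheory.Limits AlgebraicGeometry TopologicalSpace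
open scoped TensorProduct

noncomputable section

namespace Groth.L02.RhoExt

variable {P S : Scheme.{u}} (q : P ⟶ S) [IsAffine S]

/-- An affine chart with a global equation of the divisor. -/
theorem exists_cartier_chart [QuasiCompact q] [LocallyOfFinitePresentation q] (I : P.IdealSheafData)
    (hI : FGA.IsEffCartier I) [Flat (I.subschemeι ≫ q)] :
    ∃ (S₀ : Type u) (_ : CommRing S₀) (_ : Algebra Γ(S, ⊤) S₀) (π : Spec (CommRingCat.of S₀) ⟶ P) (t : S₀),
      Algebra.FinitePresentation Γ(S, ⊤) S₀ ∧ Etale π ∧ Surjective π ∧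
        π ≫ q = Spec.map (CommRingCat.ofHom (algebraMap Γ(S, ⊤) S₀)) ≫ S.isoSpec.inv ∧
        t ∈ nonZeroDivisors S₀ ∧ Module.Flat Γ(S, ⊤) (S₀ ⧸ Ideal.span {t}) ∧
        ∀ x : Spec (CommRingCat.of S₀), π x ∈ I.support ↔ t ∈ (show PrimeSpectrum S₀ from x).asIdeal := by
  classical
  haveI : CompactSpace P := QuasiCompact.compactSpace_of_compactSpace q
  choose U hU t ht hIU using hI
  obtain ⟨s, hs⟩ := isCompact_univ.elim_finite_subcover (fun y : P => ((U y : P.Opens) : Set P))
    (fun y => (U y).1.2) fun y _ => Set.mem_iUnion.2 ⟨y, hU y⟩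
  let ι : Type u := {y : P // y ∈ s}
  let R : ι → CommRingCat.{u} := fun i => Γ(P, (U i.1).1)
  let S₀ : Type u := ∀ i, R i
  have e : ∀ i : ι, (U i.1).1 ≤ q ⁻¹ᵁ (⊤ : S.Opens) := fun _ _ _ => trivial
  letI : ∀ i, Algebra Γ(S, ⊤) (R i) := fun i => (q.appLE ⊤ (U i.1).1 (e i)).hom.toAlgebra
  let d : (∐ fun i => Spec (R i)) ⟶ P := Sigma.desc fun i => (U i.1).2.fromSpec
  haveI : IsLocalIso d :=
    IsZariskiLocalAtSource.sigmaDesc fun i => IsZariskiLocalAtSource.of_isOpenImmersion _
  haveI : Etale d := Groth.L02.VanishFP.etale_of_isLocalIso d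
  haveI : Surjective d := Surjective.sigmaDesc_of_union_range_eq_univ (by
    refine Set.eq_univ_of_forall fun y => ?_
    obtain ⟨z, hz, hyz⟩ := Set.mem_iUnion₂.1 (hs (Set.mem_univ y))
    refine Set.mem_iUnion.2 ⟨⟨z, hz⟩, ?_⟩
    rw [(U z).2.range_fromSpec]
    exact hyz)
  let π : Spec (CommRingCat.of S₀) ⟶ P := inv (sigmaSpec R) ≫ d
  haveI : Etale π := inferInstance
  haveI : Surjective π := inferInstance
  have hι : ∀ i, Spec.map (CommRingCat.ofHom (Pi.evalRingHom (fun i => R i) i)) ≫ π = (U i.1).2.fromSpec := fun i => by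
    show _ ≫ inv (sigmaSpec R) ≫ d = _
    rw [← ι_sigmaSpec R i, Category.assoc, IsIso.hom_inv_id_assoc]
    exact Sigma.ι_desc _ _
  have hπ : π ≫ q = Spec.map (CommRingCat.ofHom (algebraMap Γ(S, ⊤) S₀)) ≫ S.isoSpec.inv := by
    rw [← cancel_epi (sigmaSpec R)]
    refine Sigma.hom_ext _ _ fun i => ?_
    rw [reassoc_of% ι_sigmaSpec R i, reassoc_of% hι i, ι_sigmaSpec_assoc]
    refine ((isAffineOpen_top S).SpecMap_appLE_fromSpec q (U i.1).2 (e i)).symm.trans ?_
    rw [IsAffineOpen.fromSpec_top, ← Category.assoc, ← Spec.map_comp, ← CommRingCat.ofHom_comp]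
    rfl
  have hfp : Algebra.FinitePresentation Γ(S, ⊤) S₀ := by
    haveI : LocallyOfFinitePresentation (Spec.map (CommRingCat.ofHom (algebraMap Γ(S, ⊤) S₀))) := by
      have h : LocallyOfFinitePresentation ((π ≫ q) ≫ S.isoSpec.hom) := inferInstance
      rwa [hπ, Category.assoc, Iso.inv_hom_id, Category.comp_id] at h
    exact RingHom.finitePresentation_algebraMap.1
      ((HasRingHomProperty.Spec_iff (P := @LocallyOfFinitePresentation)).1 this)
  refine ⟨S₀, inferInstance, inferInstance, π, fun i => t i.1, hfp, inferInstance, inferInstance, hπ, ?_, ?_, ?_⟩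
  · rw [mem_nonZeroDivisors_iff_right]
    intro x hx
    funext i
    exact (mem_nonZeroDivisors_iff_right.1 (ht i.1)) _ (congrFun hx i)
  · have hflat : ∀ i : ι, Module.Flat Γ(S, ⊤) ((R i) ⧸ Ideal.span {(t i.1 : R i)}) := fun i => by
      have e' : I.subschemeι ⁻¹ᵁ (U i.1).1 ≤ (I.subschemeι ≫ q) ⁻¹ᵁ (⊤ : S.Opens) := fun _ _ => trivial
      have h := (Groth.L02.RelCartier.flat_appLE_subscheme_iff q I ⟨⊤, isAffineOpen_top S⟩ (U i.1) (e i) e').1
        ((I.subschemeι ≫ q).flat_appLE (isAffineOpen_top S) ((U i.1).2.preimage _) e')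
      rw [hIU i.1] at h
      exact RingHom.flat_algebraMap_iff.1 h
    haveI : Module.Flat Γ(S, ⊤) (∀ i, (R i) ⧸ Ideal.span {(t i.1 : R i)}) :=
      Module.Flat.of_linearEquiv (DFinsupp.linearEquivFunOnFintype (R := Γ(S, ⊤))
        (M := fun i => (R i) ⧸ Ideal.span {(t i.1 : R i)})).symm
    let T₀ : S₀ := fun i => t i.1
    let f : S₀ →ₐ[Γ(S, ⊤)] ∀ i, (R i) ⧸ Ideal.span {(t i.1 : R i)} :=
      AlgHom.pi fun i => (Ideal.Quotient.mkₐ Γ(S, ⊤) _).comp (Pi.evalAlgHom _ _ i)
    have hsurj : Function.Surjective f := fun y => by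
      choose x hx using fun i => Ideal.Quotient.mk_surjective (y i)
      exact ⟨x, funext hx⟩
    have hker : RingHom.ker f = Ideal.span {T₀} := by
      ext x
      rw [RingHom.mem_ker, Ideal.mem_span_singleton]
      constructor
      · intro h
        choose c hc using fun i => Ideal.mem_span_singleton.1 (Ideal.Quotient.eq_zero_iff_mem.1 (congrFun h i))
        exact ⟨c, funext hc⟩
      · rintro ⟨c, rfl⟩
        funext i
        exact Ideal.Quotient.eq_zero_iff_mem.2 (Ideal.mem_span_singleton.2 ⟨c i, rfl⟩)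
    exact Module.Flat.of_linearEquiv
      ((Ideal.quotientEquivAlgOfEq Γ(S, ⊤) hker).symm.trans
        (Ideal.quotientKerAlgEquivOfSurjective hsurj)).toLinearEquiv
  · intro x
    obtain ⟨i, y, hy⟩ : ∃ i y, Spec.map (CommRingCat.ofHom (Pi.evalRingHom (fun i => R i) i)) y = x := by
      obtain ⟨i, y, hy⟩ := (sigmaOpenCover fun i => Spec (R i)).exists_eq ((inv (sigmaSpec R)) x)
      refine ⟨i, y, ?_⟩
      rw [← ι_sigmaSpec R i, Scheme.Hom.comp_apply]
      refine (congrArg (sigmaSpec R) hy).trans ?_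
      rw [← Scheme.Hom.comp_apply, IsIso.inv_hom_id]
      rfl
    subst hy
    rw [← Scheme.Hom.comp_apply, hι i]
    have hmem : (U i.1).2.fromSpec y ∈ (U i.1).1 := (U i.1).2.range_fromSpec.le ⟨y, rfl⟩
    have h1 := Set.ext_iff.1 (I.coe_support_inter (U i.1)) ((U i.1).2.fromSpec y)
    simp only [Set.mem_inter_iff, SetLike.mem_coe, hmem, and_true] at h1
    refine h1.trans ((Set.ext_iff.1 ((U i.1).2.fromSpec_preimage_zeroLocus _) y).trans ?_)
    rw [PrimeSpectrum.mem_zeroLocus, hIU i.1, SetLike.coe_subset_coe, Ideal.span_singleton_le_iff_mem]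
    rfl

end Groth.L02.RhoExt
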