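import Groth.Agent.L02.RhoExt.Chart
import Groth.Agent.L02.VanishFP.Chart

/-!
Projective covers of a chart of a proper scheme.
-/

set_option autoImplicit false
set_option linter.style.haveILetI false
set_option linter.unusedSectionVars false
set_option backward.isDefEq.respectTransparency false

universe u

open CategoryTheory CategoryTheory.Limits AlgebraicGeometry TopologicalSpace
open scoped TensorProduct

noncomputable section

namespace Groth.L02.RhoExt

open Groth.L02.VanishFP (pt)

variable {P S : Scheme.{u}} (q : P ⟶ S) [IsAffine S]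

attribute [local instance] Algebra.TensorProduct.rightAlgebra

set_option maxHeartbeats 4000000 in
/-- A projective cover of the chart over an étale neighbourhood of a point of the base. -/
theorem exists_projective_cover [IsProper q] (S₀ : Type u) [CommRing S₀] [Algebra Γ(S, ⊤) S₀]
    [Algebra.FinitePresentation Γ(S, ⊤) S₀] (π : Spec (CommRingCat.of S₀) ⟶ P) [Etale π] [Surjective π]
    (hπ : π ≫ q = Spec.map (CommRingCat.ofHom (algebraMap Γ(S, ⊤) S₀)) ≫ S.isoSpec.inv)
    (N : Type u) [AddCommGroup N] [Module S₀ N] [Module Γ(S, ⊤) N] [IsScalarTower Γ(S, ⊤) S₀ N]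
    [Module.FinitePresentation S₀ N] [Module.Flat Γ(S, ⊤) N] (p : S) :
    ∃ (R' S' : Type u) (_ : CommRing R') (_ : CommRing S') (_ : Algebra Γ(S, ⊤) R') (_ : Algebra R' S')
      (_ : Algebra S₀ S') (_ : SMulCommClass S₀ R' S') (r : R'),
      Algebra.Etale Γ(S, ⊤) R' ∧ Module.Flat S₀ S' ∧ Module.Projective R' (S' ⊗[S₀] N) ∧
      (∃ x : PrimeSpectrum R', r ∉ x.asIdeal ∧ pt (algebraMap Γ(S, ⊤) R') x = p) ∧
      ∀ (T : Type u) [CommRing T] [Algebra R' T], IsUnit (algebraMap R' T r) →
        ∃ κ : Spec (CommRingCat.of (S' ⊗[R'] T)) ⟶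
            pullback q (Spec.map (CommRingCat.ofHom (algebraMap R' T)) ≫ pt (algebraMap Γ(S, ⊤) R')),
          Etale κ ∧ Surjective κ ∧
          κ ≫ pullback.fst _ _ = Spec.map (CommRingCat.ofHom (algebraMap S₀ (S' ⊗[R'] T))) ≫ π := by
  classical
  let R := Γ(S, ⊤)
  let pI := (S.isoSpec.hom p).asIdeal
  obtain ⟨R', S', _, _, _, _, _, _, _, _, p', _, hR', hS', hpts, hproj⟩ :=
    Groth.L20.RG.exists_projective_cover_over (R := R) (S := S₀) N pI
      fun (Q : Ideal S₀) (_ : Q.IsPrime) _ => Groth.L20.FibreCrit.flat_localizedModule_of_flat Q.primeCompl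
  haveI := hR'.1
  haveI := hS'
  haveI : SMulCommClass S₀ R' S' := ⟨fun s a c => by simp only [Algebra.smul_def]; ring⟩
  haveI : IsScalarTower R' S' (S' ⊗[S₀] N) := TensorProduct.isScalarTower_left
  haveI : Module.Projective R' (S' ⊗[S₀] N) := by
    haveI := hproj
    exact Module.Projective.of_equiv
      ({ RestrictScalars.addEquiv R' S' (S' ⊗[S₀] N) with
          map_smul' := fun r x => by
            show RestrictScalars.addEquiv R' S' _ (r • x) = r • RestrictScalars.addEquiv R' S' _ x
            rw [RestrictScalars.addEquiv_map_smul, algebraMap_smul] } :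
        RestrictScalars R' S' (S' ⊗[S₀] N) ≃ₗ[R'] S' ⊗[S₀] N)
  -- the geometry over the étale neighbourhood
  let g' := pt (algebraMap R R')
  let eD : Spec (CommRingCat.of S') ⟶ Spec (CommRingCat.of S₀) := Spec.map (CommRingCat.ofHom (algebraMap S₀ S'))
  let d : Spec (CommRingCat.of S') ⟶ Spec (CommRingCat.of R') := Spec.map (CommRingCat.ofHom (algebraMap R' S'))
  let B' := R' ⊗[R] S₀
  let a : Spec (CommRingCat.of B') ⟶ Spec (CommRingCat.of S₀) :=
    Spec.map (CommRingCat.ofHom (algebraMap S₀ B'))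
  let b : Spec (CommRingCat.of B') ⟶ Spec (CommRingCat.of R') := Spec.map (CommRingCat.ofHom (algebraMap R' B'))
  have hsq : IsPullback a b (π ≫ q) g' := by
    refine IsPullback.of_iso (isPullback_SpecMap_of_isPushout _ _ _ _ (CommRingCat.isPushout_tensorProduct R R' S₀).flip)
      (Iso.refl _) (Iso.refl _) (Iso.refl _) S.isoSpec.symm ?_ ?_ ?_ ?_
    · simp only [Iso.refl_hom, Category.id_comp, Iso.symm_hom]
      rfl
    · simp only [Iso.refl_hom, Category.id_comp, Category.comp_id]
      rfl
    · simp only [Iso.refl_hom, Category.id_comp, Iso.symm_hom]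
      exact hπ.symm
    · simp only [Iso.refl_hom, Category.id_comp, Iso.symm_hom]
      rfl
  let π' : Spec (CommRingCat.of B') ⟶ pullback q g' := pullback.lift (a ≫ π) b (by rw [Category.assoc]; exact hsq.w)
  have hπ' : IsPullback a π' π (pullback.fst q g') := by
    refine IsPullback.of_bot ?_ (by rw [pullback.lift_fst]) (IsPullback.of_hasPullback q g')
    rw [pullback.lift_snd]
    exact hsq
  haveI : Etale π' := MorphismProperty.of_isPullback (P := @Etale) hπ' inferInstance
  haveI : Etale (Spec.map (CommRingCat.ofHom (algebraMap R R'))) :=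
    (HasRingHomProperty.Spec_iff (P := @Etale)).2 (RingHom.etale_algebraMap.2 inferInstance)
  haveI : Etale (Spec.map (CommRingCat.ofHom (algebraMap S₀ S'))) :=
    (HasRingHomProperty.Spec_iff (P := @Etale)).2 (RingHom.etale_algebraMap.2 inferInstance)
  haveI : Etale g' := inferInstance
  haveI : Etale eD := inferInstance
  haveI : Etale a := MorphismProperty.of_isPullback (P := @Etale) hsq.flip inferInstance
  let φ : B' →ₐ[R] S' := Algebra.TensorProduct.productMap (IsScalarTower.toAlgHom R R' S') (IsScalarTower.toAlgHom R S₀ S')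
  let sφ : Spec (CommRingCat.of S') ⟶ Spec (CommRingCat.of B') := Spec.map (CommRingCat.ofHom φ.toRingHom)
  have hφ₁ : sφ ≫ a = eD := by
    rw [← Spec.map_comp, ← CommRingCat.ofHom_comp]
    congr 2
    refine RingHom.ext fun s => ?_
    show φ ((1 : R') ⊗ₜ[R] s) = _
    exact (Algebra.TensorProduct.productMap_apply_tmul _ _ _ _).trans (by rw [map_one, one_mul]; rfl)
  have hφ₂ : sφ ≫ b = d := by
    rw [← Spec.map_comp, ← CommRingCat.ofHom_comp]
    congr 2
    refine RingHom.ext fun s => ?_
    show φ (s ⊗ₜ[R] (1 : S₀)) = _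
    exact (Algebra.TensorProduct.productMap_apply_tmul _ _ _ _).trans (by rw [map_one, mul_one]; rfl)
  haveI : Etale sφ := MorphismProperty.of_postcomp (W := @Etale) (W' := @Etale) sφ a inferInstance (by rw [hφ₁]; infer_instance)
  let w : Spec (CommRingCat.of S') ⟶ pullback q g' := sφ ≫ π'
  haveI : Etale w := inferInstance
  have hw₁ : w ≫ pullback.fst q g' = eD ≫ π := by rw [Category.assoc, pullback.lift_fst, ← Category.assoc, hφ₁]
  have hw₂ : w ≫ pullback.snd q g' = d := by rw [Category.assoc, pullback.lift_snd, hφ₂]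
  haveI : pI.IsPrime := (S.isoSpec.hom p).isPrime
  let p'' : PrimeSpectrum R' := ⟨p', inferInstance⟩
  have hp'' : (Spec.map (CommRingCat.ofHom (algebraMap R R'))) p'' = S.isoSpec.hom p :=
    PrimeSpectrum.ext hR'.2.1.over.symm
  have hgp : g' p'' = p := by
    show (Spec.map (CommRingCat.ofHom (algebraMap R R')) ≫ S.isoSpec.inv) p'' = p
    rw [Scheme.Hom.comp_apply, hp'']
    exact (Scheme.Hom.comp_apply _ _ _).symm.trans (by rw [Iso.hom_inv_id]; rfl)
  have hcov : ∀ y : ↥(pullback q g'), pullback.snd q g' y = p'' → y ∈ Set.range w := by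
    intro y hy
    obtain ⟨z, hz⟩ := π.surjective (pullback.fst q g' y)
    obtain ⟨v, hv₁, hv₂⟩ := Scheme.exists_preimage_of_isPullback hπ' z y hz
    have hv : b v = p'' := by rw [← hy, ← hv₂, ← Scheme.Hom.comp_apply, pullback.lift_snd]
    let Q : Ideal B' := (show PrimeSpectrum B' from v).asIdeal
    haveI : Q.IsPrime := (show PrimeSpectrum B' from v).isPrime
    have hQ' : Q.LiesOver p' := ⟨(congrArg PrimeSpectrum.asIdeal hv).symm⟩
    let Q₀ : Ideal S₀ := Q.comap (algebraMap S₀ B')
    haveI hQ₀ : Q₀.LiesOver pI := ⟨by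
      rw [Ideal.under_def, Ideal.comap_comap, ← IsScalarTower.algebraMap_eq, IsScalarTower.algebraMap_eq R R' B',
        ← Ideal.comap_comap]
      rw [← show p' = Q.comap (algebraMap R' B') from hQ'.over]
      exact hR'.2.1.over⟩
    obtain ⟨x, hx, hxq, hxp⟩ := hpts Q₀ inferInstance
    haveI := hx
    obtain ⟨Q₁, _, -, -, huniq⟩ := Groth.L20.RG.exists_point_of_isPushout (B := R) (A := S₀) (B' := R') (A' := B')
      pI Q₀ p' hR'.2
    have h1 : Q = Q₁ := huniq Q hQ' ⟨rfl⟩
    have h2 : x.comap φ.toRingHom = Q₁ := by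
      refine huniq _ ⟨?_⟩ ⟨?_⟩
      · rw [Ideal.under_def, Ideal.comap_comap]
        refine hxp.symm.trans ?_
        congr 1
        refine RingHom.ext fun s => ?_
        show _ = φ (s ⊗ₜ[R] (1 : S₀))
        symm
        exact (Algebra.TensorProduct.productMap_apply_tmul _ _ _ _).trans (by rw [map_one, mul_one]; rfl)
      · rw [Ideal.under_def, Ideal.comap_comap]
        refine hxq.symm.trans ?_
        congr 1
        refine RingHom.ext fun s => ?_
        show _ = φ ((1 : R') ⊗ₜ[R] s)
        symm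
        exact (Algebra.TensorProduct.productMap_apply_tmul _ _ _ _).trans (by rw [map_one, one_mul]; rfl)
    refine ⟨(⟨x, hx⟩ : PrimeSpectrum S'), ?_⟩
    rw [Scheme.Hom.comp_apply, ← hv₂]
    exact congrArg π' (PrimeSpectrum.ext (h2.trans h1.symm))
  -- shrink
  let Ω : Set ↥(pullback q g') := Set.range w
  have hΩ : IsOpen Ω := w.isOpenMap.isOpen_range
  have hC : IsClosed (pullback.snd q g' '' Ωᶜ) := (pullback.snd q g').isClosedMap _ hΩ.isClosed_compl
  have hpC : p'' ∉ pullback.snd q g' '' Ωᶜ := fun ⟨y, hy, hyp⟩ => hy (hcov y hyp)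
  obtain ⟨-, ⟨r, rfl⟩, hrp, hr⟩ :=
    PrimeSpectrum.isTopologicalBasis_basic_opens.exists_subset_of_mem_open hpC hC.isOpen_compl
  refine ⟨R', S', inferInstance, inferInstance, inferInstance, inferInstance, inferInstance, inferInstance, r,
    inferInstance, inferInstance, inferInstance, ⟨p'', hrp, hgp⟩, fun T _ _ hunit => ?_⟩
  let t : Spec (CommRingCat.of T) ⟶ Spec (CommRingCat.of R') := Spec.map (CommRingCat.ofHom (algebraMap R' T))
  let P₀ := Spec (CommRingCat.of (S' ⊗[R'] T))
  let i₁ : P₀ ⟶ Spec (CommRingCat.of S') :=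
    Spec.map (CommRingCat.ofHom (Algebra.TensorProduct.includeLeftRingHom (R := R') (A := S') (B := T)))
  let i₂ : P₀ ⟶ Spec (CommRingCat.of T) :=
    Spec.map (CommRingCat.ofHom (Algebra.TensorProduct.includeRight (R := R') (A := S') (B := T)).toRingHom)
  have hD : IsPullback i₁ i₂ d t :=
    isPullback_SpecMap_of_isPushout _ _ _ _ (CommRingCat.isPushout_tensorProduct R' S' T)
  let j : pullback q (t ≫ g') ⟶ pullback q g' :=
    pullback.lift (pullback.fst q (t ≫ g')) (pullback.snd q (t ≫ g') ≫ t) (by rw [Category.assoc]; exact pullback.condition)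
  have hj : IsPullback j (pullback.snd q (t ≫ g')) (pullback.snd q g') t := by
    refine IsPullback.of_right ?_ (pullback.lift_snd _ _ _) (IsPullback.of_hasPullback q g')
    rw [pullback.lift_fst]
    exact IsPullback.of_hasPullback q (t ≫ g')
  let κ : P₀ ⟶ pullback q (t ≫ g') := pullback.lift (i₁ ≫ eD ≫ π) i₂ (by
    rw [← hw₁, Category.assoc, Category.assoc, pullback.condition, reassoc_of% hw₂, reassoc_of% hD.w])
  have hκj : κ ≫ j = i₁ ≫ w := by
    apply pullback.hom_ext
    · rw [Category.assoc κ, pullback.lift_fst, pullback.lift_fst, Category.assoc i₁ w, hw₁]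
    · rw [Category.assoc, pullback.lift_snd, pullback.lift_snd_assoc, Category.assoc, hw₂, hD.w]
  have hκ : IsPullback i₁ κ w j := by
    refine IsPullback.of_bot ?_ hκj.symm hj
    rw [hw₂, pullback.lift_snd]
    exact hD
  have hκs : ∀ y, True ∧ y ∈ Set.range κ := fun y => by
    have hy : j y ∈ Ω := by
      by_contra hy
      refine (show pullback.snd q g' (j y) ∉ (PrimeSpectrum.basicOpen r : Set (PrimeSpectrum R')) from
        fun h => hr h ⟨j y, hy, rfl⟩) ?_
      rw [← Scheme.Hom.comp_apply, pullback.lift_snd, Scheme.Hom.comp_apply]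
      show r ∉ ((t (pullback.snd q (t ≫ g') y) : PrimeSpectrum R')).asIdeal
      intro hmem
      exact (show PrimeSpectrum T from pullback.snd q (t ≫ g') y).isPrime.ne_top
        (Ideal.eq_top_of_isUnit_mem _ hmem hunit)
    obtain ⟨x, hx⟩ := hy
    obtain ⟨v, -, hv⟩ := Scheme.exists_preimage_of_isPullback hκ x y hx
    exact ⟨trivial, v, hv⟩
  refine ⟨κ, MorphismProperty.of_isPullback (P := @Etale) hκ inferInstance, ⟨fun y => (hκs y).2⟩, ?_⟩
  haveI : IsScalarTower S₀ S' (S' ⊗[R'] T) := TensorProduct.isScalarTower_left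
  rw [pullback.lift_fst, IsScalarTower.algebraMap_eq S₀ S' (S' ⊗[R'] T), CommRingCat.ofHom_comp, Spec.map_comp,
    Category.assoc]
  rfl

end Groth.L02.RhoExt
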