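import Groth.Agent.L02.RhoExt.Calculus
import Mathlib.AlgebraicGeometry.Morphisms.Affine
import Mathlib.AlgebraicGeometry.AffineScheme
import Mathlib.RingTheory.Localization.Integer
import Mathlib.RingTheory.Localization.Away.Basic
import Mathlib.RingTheory.FiniteStability

/-!
The affine criterion for extending a morphism across a principal divisor.
-/

set_option autoImplicit false
set_option linter.style.haveILetI false
set_option linter.unusedSectionVars false
set_option backward.isDefEq.respectTransparency false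

universe u

open CategoryTheory CategoryTheory.Limits AlgebraicGeometry

noncomputable section

namespace Groth.L02.RhoExt

variable {P Y : Scheme.{u}} {Q : P.Opens} {p : Y ⟶ P} {s : (Q : Scheme.{u}) ⟶ Y}

set_option maxHeartbeats 2000000 in
/-- On an affine chart a lift is unique and exists iff finitely many elements are divisible by a power of `t`. -/
theorem exists_criterion [IsAffineHom p] [LocallyOfFinitePresentation p] (hs : s ≫ p = Q.ι)
    (S₀ : Type u) [CommRing S₀] (π : Spec (CommRingCat.of S₀) ⟶ P) (t : S₀)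
    (ht : ∀ x, π x ∈ Q ↔ t ∉ (show PrimeSpectrum S₀ from x).asIdeal) :
    ∃ (n m : ℕ) (c : Fin m → S₀), 1 ≤ n ∧ ∀ (B : Type u) [CommRing B] [Algebra S₀ B],
      algebraMap S₀ B t ∈ nonZeroDivisors B →
        Uniq Q p s (Spec.map (CommRingCat.ofHom (algebraMap S₀ B)) ≫ π) ∧
        (Lifts Q p s (Spec.map (CommRingCat.ofHom (algebraMap S₀ B)) ≫ π) ↔
          ∀ l, algebraMap S₀ B (c l) ∈ Ideal.span {algebraMap S₀ B (t ^ n)}) := by
  classical
  let Yz := pullback p π
  haveI : IsAffineHom (pullback.snd p π) := MorphismProperty.pullback_snd p π inferInstance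
  haveI : IsAffine Yz := isAffine_of_isAffineHom (pullback.snd p π)
  let A : Type u := Γ(Yz, ⊤)
  let η : CommRingCat.of S₀ ⟶ CommRingCat.of A := Spec.preimage (Yz.isoSpec.inv ≫ pullback.snd p π)
  have hη : Spec.map η = Yz.isoSpec.inv ≫ pullback.snd p π := Spec.map_preimage _
  letI : Algebra S₀ A := η.hom.toAlgebra
  haveI : Algebra.FiniteType S₀ A := by
    haveI : LocallyOfFinitePresentation (Spec.map η) := by rw [hη]; infer_instance
    exact RingHom.finiteType_algebraMap.1 (RingHom.FiniteType.of_finitePresentation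
      ((HasRingHomProperty.Spec_iff (P := @LocallyOfFinitePresentation)).1 this))
  -- the section over the open piece
  let L := Localization.Away t
  let loc : Spec (CommRingCat.of L) ⟶ Spec (CommRingCat.of S₀) := Spec.map (CommRingCat.ofHom (algebraMap S₀ L))
  haveI : IsOpenImmersion loc := IsOpenImmersion.of_isLocalization t
  have hrange : Set.range (loc ≫ π) ⊆ Set.range Q.ι := by
    rintro _ ⟨x, rfl⟩
    rw [Scheme.Opens.range_ι, SetLike.mem_coe, Scheme.Hom.comp_apply, ht]
    intro hx
    exact (show PrimeSpectrum L from x).isPrime.ne_top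
      (Ideal.eq_top_of_isUnit_mem _ hx (IsLocalization.Away.algebraMap_isUnit t))
  let σ₀ : Spec (CommRingCat.of L) ⟶ (Q : Scheme.{u}) := IsOpenImmersion.lift Q.ι (loc ≫ π) hrange
  have hσ₀ : σ₀ ≫ Q.ι = loc ≫ π := IsOpenImmersion.lift_fac _ _ _
  let σ : Spec (CommRingCat.of L) ⟶ Yz := pullback.lift (σ₀ ≫ s) loc (by rw [Category.assoc, hs, hσ₀])
  let φ₀ : CommRingCat.of A ⟶ CommRingCat.of L := Spec.preimage (σ ≫ Yz.isoSpec.hom)
  have hφ₀ : Spec.map φ₀ = σ ≫ Yz.isoSpec.hom := Spec.map_preimage _
  have hφc : η ≫ φ₀ = CommRingCat.ofHom (algebraMap S₀ L) := by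
    apply Spec.map_injective
    rw [Spec.map_comp, hφ₀, hη, Category.assoc, Iso.hom_inv_id_assoc, pullback.lift_snd]
  let φ : A →ₐ[S₀] L := { φ₀.hom with commutes' := fun a => congr($(hφc).hom a) }
  -- generators
  obtain ⟨G, hG⟩ := (inferInstance : Algebra.FiniteType S₀ A).out
  let a : Fin G.card → A := fun l => (G.equivFin.symm l : A)
  obtain ⟨⟨b, N, rfl⟩, hb⟩ := IsLocalization.exist_integer_multiples_of_finite (Submonoid.powers t) fun l => φ (a l)
  choose c hc using hb
  refine ⟨N + 1, G.card, fun l => t * c l, Nat.le_add_left 1 N, fun B _ _ htB => ?_⟩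
  have hc' : ∀ l, algebraMap S₀ L (t * c l) = algebraMap S₀ L (t ^ (N + 1)) * φ (a l) := fun l => by
    rw [map_mul, hc l, Algebra.smul_def, pow_succ', map_mul, mul_assoc]
  let tB := algebraMap S₀ B t
  let BL := Localization.Away tB
  let ι : B →+* BL := algebraMap B BL
  have hι : Function.Injective ι := IsLocalization.injective BL (Submonoid.powers_le.2 htB)
  let lB : L →+* BL := IsLocalization.Away.lift t (g := ι.comp (algebraMap S₀ B))
    (IsLocalization.Away.algebraMap_isUnit (S := BL) tB)
  have hlB : lB.comp (algebraMap S₀ L) = ι.comp (algebraMap S₀ B) := IsLocalization.lift_comp _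
  let w := Spec.map (CommRingCat.ofHom (algebraMap S₀ B)) ≫ π
  let jB : Spec (CommRingCat.of BL) ⟶ Spec (CommRingCat.of B) := Spec.map (CommRingCat.ofHom ι)
  haveI : IsOpenImmersion jB := IsOpenImmersion.of_isLocalization tB
  let lS : Spec (CommRingCat.of BL) ⟶ Spec (CommRingCat.of L) := Spec.map (CommRingCat.ofHom lB)
  have hlS : lS ≫ loc = jB ≫ Spec.map (CommRingCat.ofHom (algebraMap S₀ B)) := by
    rw [← Spec.map_comp, ← Spec.map_comp, ← CommRingCat.ofHom_comp, ← CommRingCat.ofHom_comp, hlB]
  have hjw : jB ≫ w = (lS ≫ σ₀) ≫ Q.ι := by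
    rw [Category.assoc, hσ₀, ← Category.assoc lS, hlS, Category.assoc]
  -- a lift is an algebra map
  have hto : ∀ f, IsLift Q p s w f → ∃ ψ : A →ₐ[S₀] B,
      (∀ x, ι (ψ x) = lB (φ x)) ∧ f = Spec.map (CommRingCat.ofHom ψ.toRingHom) ≫ Yz.isoSpec.inv ≫ pullback.fst p π := by
    intro f hf
    let fz : Spec (CommRingCat.of B) ⟶ Yz :=
      pullback.lift f (Spec.map (CommRingCat.ofHom (algebraMap S₀ B))) hf.over'
    let ψ₀ : CommRingCat.of A ⟶ CommRingCat.of B := Spec.preimage (fz ≫ Yz.isoSpec.hom)
    have hψ₀ : Spec.map ψ₀ = fz ≫ Yz.isoSpec.hom := Spec.map_preimage _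
    have hψc : η ≫ ψ₀ = CommRingCat.ofHom (algebraMap S₀ B) := by
      apply Spec.map_injective
      rw [Spec.map_comp, hψ₀, hη, Category.assoc, Iso.hom_inv_id_assoc, pullback.lift_snd]
    refine ⟨{ ψ₀.hom with commutes' := fun a => congr($(hψc).hom a) }, fun x => ?_, ?_⟩
    · have hag := hf.agree jB (lS ≫ σ₀) hjw
      have hz : jB ≫ fz = lS ≫ σ := by
        apply pullback.hom_ext
        · rw [Category.assoc, pullback.lift_fst, hag, Category.assoc, Category.assoc, pullback.lift_fst]
        · rw [Category.assoc, pullback.lift_snd, Category.assoc, pullback.lift_snd, hlS]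
      have : ψ₀ ≫ CommRingCat.ofHom ι = φ₀ ≫ CommRingCat.ofHom lB := by
        apply Spec.map_injective
        rw [Spec.map_comp, Spec.map_comp, hψ₀, hφ₀]
        show jB ≫ fz ≫ _ = lS ≫ σ ≫ _
        rw [reassoc_of% hz]
      exact congr($(this).hom x)
    · show f = Spec.map ψ₀ ≫ _
      rw [hψ₀, Category.assoc, Iso.hom_inv_id_assoc, pullback.lift_fst]
  have hfrom : ∀ ψ : A →ₐ[S₀] B, (∀ x, ι (ψ x) = lB (φ x)) →
      IsLift Q p s w (Spec.map (CommRingCat.ofHom ψ.toRingHom) ≫ Yz.isoSpec.inv ≫ pullback.fst p π) := by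
    intro ψ hψ
    refine ⟨?_, fun {W'} v v₀ hv => ?_⟩
    · rw [Category.assoc, Category.assoc, pullback.condition, ← Category.assoc Yz.isoSpec.inv, ← hη, ← Category.assoc,
        ← Spec.map_comp]
      show _ = Spec.map (CommRingCat.ofHom (algebraMap S₀ B)) ≫ π
      congr 2
      exact CommRingCat.hom_ext (RingHom.ext fun a => ψ.commutes a)
    · have hv' : Set.range v ⊆ Set.range jB := by
        rintro _ ⟨z, rfl⟩
        show v z ∈ Set.range (PrimeSpectrum.comap ι)
        rw [PrimeSpectrum.localization_away_comap_range BL tB]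
        have hz : π ((Spec.map (CommRingCat.ofHom (algebraMap S₀ B))) (v z)) ∈ Q := by
          rw [← Scheme.Hom.comp_apply, ← Scheme.Hom.comp_apply, hv, Scheme.Hom.comp_apply]
          exact (v₀ z).2
        exact (ht _).1 hz
      let v' := IsOpenImmersion.lift jB v hv'
      have hv'' : v' ≫ jB = v := IsOpenImmersion.lift_fac _ _ _
      have hv₀ : v₀ = v' ≫ lS ≫ σ₀ := by
        rw [← cancel_mono Q.ι, Category.assoc, Category.assoc, ← hv, ← hv'', Category.assoc]
        exact congrArg (v' ≫ ·) (by rw [hjw, Category.assoc])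

      rw [hv₀, ← hv'', Category.assoc, Category.assoc, Category.assoc]
      congr 1
      have hh : CommRingCat.ofHom ψ.toRingHom ≫ CommRingCat.ofHom ι = φ₀ ≫ CommRingCat.ofHom lB :=
        CommRingCat.hom_ext (RingHom.ext hψ)
      show Spec.map (CommRingCat.ofHom ι) ≫ _ = _
      rw [← Category.assoc, ← Spec.map_comp, hh, Spec.map_comp, hφ₀, Category.assoc, Category.assoc,
        Iso.hom_inv_id_assoc, pullback.lift_fst]
  have htn : (algebraMap S₀ B) (t ^ (N + 1)) ∈ nonZeroDivisors B := by rw [map_pow]; exact pow_mem htB _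
  refine ⟨fun f f' hf hf' => ?_, ⟨?_, fun h => ?_⟩⟩
  · obtain ⟨ψ, hψ, rfl⟩ := hto f hf
    obtain ⟨ψ', hψ', rfl⟩ := hto f' hf'
    rw [show ψ = ψ' from AlgHom.ext fun x => hι ((hψ x).trans (hψ' x).symm)]
  · rintro ⟨f, hf⟩ l
    obtain ⟨ψ, hψ, -⟩ := hto f hf
    refine Ideal.mem_span_singleton.2 ⟨ψ (a l), hι ?_⟩
    rw [map_mul ι _ (ψ (a l)), hψ]
    refine (RingHom.congr_fun hlB _).symm.trans ?_
    show lB (algebraMap S₀ L (t * c l)) = _
    rw [hc' l, map_mul]
    congr 1
    exact RingHom.congr_fun hlB _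
  · choose y hy using fun l => Ideal.mem_span_singleton.1 (h l)
    have key : ∀ x : A, ∃ z : B, ι z = lB (φ x) := fun x => by
      have hx : x ∈ Algebra.adjoin S₀ (G : Set A) := hG ▸ Algebra.mem_top
      induction hx using Algebra.adjoin_induction with
      | mem x hx =>
        refine ⟨y (G.equivFin ⟨x, hx⟩), ?_⟩
        have hu : IsUnit (ι (algebraMap S₀ B (t ^ (N + 1)))) := by
          rw [map_pow, map_pow]; exact (IsLocalization.Away.algebraMap_isUnit (S := BL) tB).pow _
        refine hu.mul_left_cancel ?_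
        rw [← map_mul, ← hy]
        refine (RingHom.congr_fun hlB _).symm.trans ?_
        show lB (algebraMap S₀ L _) = _
        rw [hc', map_mul]
        congr 1
        · exact RingHom.congr_fun hlB _
        · simp [a]
      | algebraMap r => exact ⟨algebraMap S₀ B r, by rw [φ.commutes]; exact (RingHom.congr_fun hlB r).symm⟩
      | add x y _ _ hx hy => exact ⟨hx.choose + hy.choose, by rw [map_add, map_add, map_add, hx.choose_spec, hy.choose_spec]⟩
      | mul x y _ _ hx hy => exact ⟨hx.choose * hy.choose, by rw [map_mul, map_mul, map_mul, hx.choose_spec, hy.choose_spec]⟩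
    choose z hz using key
    let ψ : A →ₐ[S₀] B :=
      { toFun := z
        map_one' := hι (by rw [hz, map_one, map_one, map_one])
        map_mul' := fun x y => hι (by rw [hz, map_mul, map_mul, map_mul, hz, hz])
        map_zero' := hι (by rw [hz, map_zero, map_zero, map_zero])
        map_add' := fun x y => hι (by rw [hz, map_add, map_add, map_add, hz, hz])
        commutes' := fun r => hι (by rw [hz, φ.commutes]; exact RingHom.congr_fun hlB r) }
    exact ⟨_, hfrom ψ hz⟩

end Groth.L02.RhoExt
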