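import Groth.Agent.L02.RhoExt.Cover
import Groth.Agent.L02.RhoExt.Criterion
import Groth.Agent.L02.RhoExt.Alg
import Groth.Agent.L02.Hilb.Base
import Groth.Agent.L11.Magnet.ClosedSub
import Groth.Agent.L22.FlatPullback
import Mathlib.AlgebraicGeometry.Morphisms.Separated

/-!
Extending a section given off a relative effective Cartier divisor on a proper scheme is a closed condition
on the base.
-/

set_option autoImplicit false
set_option linter.style.haveILetI false
set_option linter.unusedSectionVars false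
set_option backward.isDefEq.respectTransparency false

universe u

open CategoryTheory CategoryTheory.Limits AlgebraicGeometry TopologicalSpace
open scoped TensorProduct

noncomputable section

namespace Groth.L02.RhoExt

open Groth.L02.VanishFP (pt exists_content tmul_eq_zero_iff exists_ideal_descend)

attribute [local instance] Algebra.TensorProduct.rightAlgebra

section Affine

variable {P S Y : Scheme.{u}} (q : P ⟶ S) [IsAffine S] [IsProper q] [LocallyOfFinitePresentation q]
  (I : P.IdealSheafData) [Flat (I.subschemeι ≫ q)] {Q : P.Opens} {p : Y ⟶ P} [IsAffineHom p]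
  [LocallyOfFinitePresentation p] {s : (Q : Scheme.{u}) ⟶ Y}

set_option maxHeartbeats 4000000 in
/-- After an étale localisation at a point of an affine base, extendability is given by an ideal. -/
theorem exists_etale_ideal (hI : FGA.IsEffCartier I) (hQ : Q = I.support.compl) (hs : s ≫ p = Q.ι) (x : S) :
    ∃ (L : Type u) (_ : CommRing L) (_ : Algebra Γ(S, ⊤) L) (_ : Algebra.Etale Γ(S, ⊤) L) (K : Ideal L),
      x ∈ Set.range (pt (algebraMap Γ(S, ⊤) L)) ∧
      ∀ (T : Type u) [CommRing T] (ψ : L →+* T),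
        UT q Q p s (pt (ψ.comp (algebraMap Γ(S, ⊤) L))) ∧
          (LT q Q p s (pt (ψ.comp (algebraMap Γ(S, ⊤) L))) ↔ K ≤ RingHom.ker ψ) := by
  classical
  let R := Γ(S, ⊤)
  obtain ⟨S₀, _, _, π, t, _, _, _, hπ, htd, _, hsupp⟩ := exists_cartier_chart q I hI
  have htQ : ∀ y, π y ∈ Q ↔ t ∉ (show PrimeSpectrum S₀ from y).asIdeal := fun y => by
    rw [hQ, ← hsupp y]
    rfl
  obtain ⟨n, m, c, hn, hcrit⟩ := exists_criterion hs S₀ π t htQ
  let N := S₀ ⧸ Ideal.span {t ^ n}
  haveI : Module.Flat R N := flat_quot_pow t htd n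
  haveI : Module.FinitePresentation S₀ N := finitePresentation_quot _
  obtain ⟨R', S', _, _, _, _, _, _, r, _, _, _, ⟨x₀, hr, hx₀⟩, hκ⟩ := exists_projective_cover q S₀ π hπ N x
  obtain ⟨K, hK⟩ := exists_content (A := R') (S' ⊗[S₀] N)
    (Set.range fun l : Fin m => (1 : S') ⊗ₜ[S₀] (Ideal.Quotient.mk (Ideal.span {t ^ n}) (c l)))
  haveI : Algebra.Etale R' (Localization.Away r) := Algebra.Etale.of_isLocalizationAway r
  haveI : Algebra.Etale R (Localization.Away r) := Algebra.Etale.comp R R' (Localization.Away r)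
  refine ⟨Localization.Away r, inferInstance, inferInstance, inferInstance,
    K.map (algebraMap R' (Localization.Away r)), ?_, fun T _ ψ => ?_⟩
  · have hmem : x₀ ∈ Set.range (PrimeSpectrum.comap (algebraMap R' (Localization.Away r))) := by
      rw [PrimeSpectrum.localization_away_comap_range (Localization.Away r) r]
      exact hr
    obtain ⟨v, hv⟩ := hmem
    refine ⟨v, ?_⟩
    rw [← hx₀, ← hv]
    show (Spec.map (CommRingCat.ofHom (algebraMap R (Localization.Away r))) ≫ S.isoSpec.inv) v = pt _ _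
    rw [IsScalarTower.algebraMap_eq R R' (Localization.Away r), CommRingCat.ofHom_comp, Spec.map_comp, Category.assoc,
      Scheme.Hom.comp_apply]
    rfl
  letI : Algebra R' T := (ψ.comp (algebraMap R' (Localization.Away r))).toAlgebra
  have hg : pt (ψ.comp (algebraMap R (Localization.Away r))) =
      Spec.map (CommRingCat.ofHom (algebraMap R' T)) ≫ pt (algebraMap R R') := by
    rw [IsScalarTower.algebraMap_eq R R' (Localization.Away r), ← RingHom.comp_assoc]
    simp only [pt, RingHom.algebraMap_toAlgebra, CommRingCat.ofHom_comp, Spec.map_comp, Category.assoc]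
  rw [hg]
  let g := Spec.map (CommRingCat.ofHom (algebraMap R' T)) ≫ pt (algebraMap R R')
  have hru : IsUnit (algebraMap R' T r) := (IsLocalization.Away.algebraMap_isUnit r).map ψ
  obtain ⟨κ, _, _, hκ'⟩ := hκ T hru
  let B := S' ⊗[R'] T
  have htB : algebraMap S₀ B t ∈ nonZeroDivisors B := mem_nonZeroDivisors_baseChange t htd hn
  let w := Spec.map (CommRingCat.ofHom (algebraMap S₀ B)) ≫ π
  obtain ⟨hu₀, hl₀⟩ := hcrit B htB
  haveI : Epi κ := Flat.epi_of_flat_of_surjective κ
  have hut : UT q Q p s g := Uniq.of_epi κ (hu₀.congr hκ'.symm)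
  refine ⟨hut, ?_⟩
  have hiff : LT q Q p s g ↔ Lifts Q p s w := by
    refine ⟨fun h => ?_, fun h => Lifts.descend κ ?_ (by rw [hκ']; exact h)⟩
    · have h' := Lifts.comp h κ
      rwa [hκ'] at h'
    haveI : IsAffineHom (κ ≫ pullback.snd q g) := inferInstance
    haveI : IsAffineHom κ := IsAffineHom.of_comp κ (pullback.snd q g)
    haveI : IsAffine (pullback κ κ) := isAffine_of_isAffineHom (pullback.fst κ κ)
    let W := pullback κ κ
    let φ : CommRingCat.of B ⟶ Γ(W, ⊤) := Spec.preimage (W.isoSpec.inv ≫ pullback.fst κ κ)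
    have hφ : Spec.map φ = W.isoSpec.inv ≫ pullback.fst κ κ := Spec.map_preimage _
    have hflat : φ.hom.Flat := by
      have h : Flat (Spec.map φ) := by rw [hφ]; infer_instance
      exact (HasRingHomProperty.Spec_iff (P := @Flat)).1 h
    letI : Algebra S₀ Γ(W, ⊤) := (φ.hom.comp (algebraMap S₀ B)).toAlgebra
    have htW : algebraMap S₀ Γ(W, ⊤) t ∈ nonZeroDivisors Γ(W, ⊤) := by
      algebraize [φ.hom]
      show φ.hom (algebraMap S₀ B t) ∈ nonZeroDivisors Γ(W, ⊤)
      rw [mem_nonZeroDivisors_iff_right]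
      intro b hb
      refine Module.Flat.isSMulRegular_of_nonZeroDivisors (M := Γ(W, ⊤)) htB ?_
      simp only [smul_zero]
      rw [Algebra.smul_def, mul_comm]
      exact hb
    refine Uniq.of_epi W.isoSpec.inv (((hcrit Γ(W, ⊤) htW).1).congr ?_)
    rw [hκ', RingHom.algebraMap_toAlgebra, CommRingCat.ofHom_comp, Spec.map_comp, CommRingCat.ofHom_hom, hφ,
      Category.assoc, Category.assoc]
  rw [hiff, hl₀, Ideal.map_le_iff_le_comap, RingHom.comap_ker]
  refine Iff.trans ?_ (Set.forall_mem_range.symm.trans (hK T))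
  exact forall_congr' fun l => (one_tmul_mk_eq_zero_iff _ _).symm.trans (tmul_eq_zero_iff _)

set_option maxHeartbeats 2000000 in
/-- Around a point of an affine base lifts are unique and extendability is given by an ideal. -/
theorem exists_near (hI : FGA.IsEffCartier I) (hQ : Q = I.support.compl) (hs : s ≫ p = Q.ι) (x : S) :
    ∃ (A : CommRingCat.{u}) (a : Spec A ⟶ S) (J : Ideal A), IsOpenImmersion a ∧ x ∈ Set.range a ∧
      (∀ {U : Scheme.{u}} (g : U ⟶ Spec A), UT q Q p s (g ≫ a)) ∧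
      ∀ (T : Type u) [CommRing T] (φ : A →+* T),
        LT q Q p s (Spec.map (CommRingCat.ofHom φ) ≫ a) ↔ J ≤ RingHom.ker φ := by
  classical
  obtain ⟨L, _, _, _, K, hp, hK⟩ := exists_etale_ideal q I hI hQ hs x
  let R := Γ(S, ⊤)
  haveI : Etale (Spec.map (CommRingCat.ofHom (algebraMap R L))) :=
    (HasRingHomProperty.Spec_iff (P := @Etale)).2 (RingHom.etale_algebraMap.2 inferInstance)
  let sL : Spec (CommRingCat.of L) ⟶ Spec R := Spec.map (CommRingCat.ofHom (algebraMap R L))
  obtain ⟨y, hy⟩ := hp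
  have hmem : S.isoSpec.hom x ∈ Set.range sL := ⟨y, by
    rw [← hy, ← Scheme.Hom.comp_apply, Category.assoc, Iso.inv_hom_id, Category.comp_id]⟩
  obtain ⟨-, ⟨f, rfl⟩, hpf, hf⟩ :=
    PrimeSpectrum.isTopologicalBasis_basic_opens.exists_subset_of_mem_open hmem sL.isOpenMap.isOpen_range
  let A := Localization.Away f
  haveI : IsOpenImmersion (Spec.map (CommRingCat.ofHom (algebraMap R A))) :=
    IsOpenImmersion.of_isLocalization f
  haveI : Module.Flat R L := inferInstance
  let C := A ⊗[R] L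
  haveI : Algebra.Etale A C := inferInstance
  have hsq : IsPullback (Spec.map (CommRingCat.ofHom (Algebra.TensorProduct.includeLeftRingHom (R := R) (A := A) (B := L))))
      (Spec.map (CommRingCat.ofHom (Algebra.TensorProduct.includeRight (R := R) (A := A) (B := L)).toRingHom))
      (Spec.map (CommRingCat.ofHom (algebraMap R A))) sL :=
    isPullback_SpecMap_of_isPushout _ _ _ _ (CommRingCat.isPushout_tensorProduct R A L)
  haveI : Module.FaithfullyFlat A C := Module.FaithfullyFlat.of_comap_surjective fun P => by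
    have hP : (Spec.map (CommRingCat.ofHom (algebraMap R A))) P ∈ Set.range sL := hf (by
      have := Set.mem_range_self (f := PrimeSpectrum.comap (algebraMap R A)) P
      rw [PrimeSpectrum.localization_away_comap_range A f] at this
      exact this)
    obtain ⟨z, hz⟩ := hP
    obtain ⟨v, hv, -⟩ := Scheme.exists_preimage_of_isPullback hsq P z hz.symm
    exact ⟨v, hv⟩
  let inR : L →+* C := (Algebra.TensorProduct.includeRight (R := R) (A := A) (B := L)).toRingHom
  have e : ∀ (T : Type u) [CommRing T] (ψ : C →+* T),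
      (ψ.comp (algebraMap A C)).comp (algebraMap R A) = (ψ.comp inR).comp (algebraMap R L) := fun T _ ψ => by
    ext a
    show ψ (algebraMap A C (algebraMap R A a)) =
      ψ ((Algebra.TensorProduct.includeRight (R := R) (A := A) (B := L)) (algebraMap R L a))
    rw [AlgHom.commutes, ← IsScalarTower.algebraMap_apply]
  -- the étale cover of a point of `Spec A`
  have hinc : ∀ (T : Type u) [CommRing T] [Algebra A T],
      Etale (Spec.map (CommRingCat.ofHom (algebraMap T (T ⊗[A] C)))) ∧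
      Surjective (Spec.map (CommRingCat.ofHom (algebraMap T (T ⊗[A] C)))) ∧
      Spec.map (CommRingCat.ofHom (algebraMap T (T ⊗[A] C))) ≫ pt ((algebraMap A T).comp (algebraMap R A)) =
        pt ((algebraMap A (T ⊗[A] C)).comp (algebraMap R A)) := by
    intro T _ _
    haveI : Algebra.Etale T (T ⊗[A] C) := inferInstance
    refine ⟨(HasRingHomProperty.Spec_iff (P := @Etale)).2
      (RingHom.etale_algebraMap (R := T) (S := T ⊗[A] C) |>.2 inferInstance), ⟨fun v => ?_⟩, ?_⟩
    · exact PrimeSpectrum.comap_surjective_of_faithfullyFlat (A := T) (B := T ⊗[A] C) v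
    · simp only [pt, ← Category.assoc, ← Spec.map_comp, ← CommRingCat.ofHom_comp, ← RingHom.comp_assoc]
      rw [← IsScalarTower.algebraMap_eq A T (T ⊗[A] C)]
  have hUT₁ : ∀ (T : Type u) [CommRing T] (ψ : C →+* T),
      UT q Q p s (pt ((ψ.comp (algebraMap A C)).comp (algebraMap R A))) := fun T _ ψ => by
    rw [e]
    exact (hK _ _).1
  have hUT₀ : ∀ (T : Type u) [CommRing T] (φ : A →+* T), UT q Q p s (pt (φ.comp (algebraMap R A))) := by
    intro T _ φ
    letI := φ.toAlgebra
    obtain ⟨h₁, h₂, h₃⟩ := hinc T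
    refine UT.of_cover (Spec.map (CommRingCat.ofHom (algebraMap T (T ⊗[A] C)))) ?_
    rw [show pt (φ.comp (algebraMap R A)) = pt ((algebraMap A T).comp (algebraMap R A)) from rfl, h₃]
    have hψ : (Algebra.TensorProduct.includeRight (R := A) (A := T) (B := C)).toRingHom.comp (algebraMap A C) =
        algebraMap A (T ⊗[A] C) := RingHom.ext fun a =>
      (Algebra.TensorProduct.includeRight (R := A) (A := T) (B := C)).commutes a
    rw [← hψ]
    exact hUT₁ _ _
  have hUT : ∀ {U : Scheme.{u}} (g : U ⟶ Spec (CommRingCat.of A)), UT q Q p s (g ≫ pt (algebraMap R A)) := by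
    intro U g
    refine UT.of_openCover U.affineCover fun i => ?_
    refine UT.of_cover (U.affineCover.X i).isoSpec.inv ?_
    obtain ⟨φ, hφ⟩ := Spec.map_surjective ((U.affineCover.X i).isoSpec.inv ≫ U.affineCover.f i ≫ g)
    rw [← Category.assoc, ← Category.assoc, Category.assoc _ (U.affineCover.f i), ← hφ]
    have := hUT₀ _ φ.hom
    rwa [pt, CommRingCat.ofHom_comp, Spec.map_comp, CommRingCat.ofHom_hom, Category.assoc] at this
  obtain ⟨J, hJ⟩ := exists_ideal_descend (A := A) (C := C)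
    (fun T _ φ => LT q Q p s (pt (φ.comp (algebraMap R A))))
    (fun T T' _ _ φ ψ h => by
      simp only [pt, RingHom.comp_assoc] at h ⊢
      rw [CommRingCat.ofHom_comp _ ψ, Spec.map_comp, Category.assoc]
      exact LT.comp h _)
    (fun T _ _ h => by
      obtain ⟨h₁, h₂, -⟩ := hinc T
      let inc := Spec.map (CommRingCat.ofHom (algebraMap T (T ⊗[A] C)))
      refine LT.descend inc ?_ ?_
      · have := hUT (pullback.fst inc inc ≫ inc ≫ Spec.map (CommRingCat.ofHom (algebraMap A T)))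
        simpa only [pt, CommRingCat.ofHom_comp, Spec.map_comp, Category.assoc] using this
      · simp only [pt, inc, ← Category.assoc, ← Spec.map_comp, ← CommRingCat.ofHom_comp, ← RingHom.comp_assoc]
        rw [← IsScalarTower.algebraMap_eq A T (T ⊗[A] C)]
        exact h)
    (K.map inR)
    fun T _ ψ => by rw [e, (hK _ _).2, Ideal.map_le_iff_le_comap, RingHom.comap_ker]
  refine ⟨CommRingCat.of A, pt (algebraMap R A), J, inferInstance, ?_, hUT, fun T _ φ => ?_⟩
  · have hr : S.isoSpec.hom x ∈ Set.range (PrimeSpectrum.comap (algebraMap R A)) := by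
      rw [PrimeSpectrum.localization_away_comap_range A f]
      exact hpf
    obtain ⟨v, hv⟩ := hr
    refine ⟨v, ?_⟩
    show (Spec.map (CommRingCat.ofHom (algebraMap R A)) ≫ S.isoSpec.inv) v = x
    rw [Scheme.Hom.comp_apply]
    refine (congrArg S.isoSpec.inv hv).trans ?_
    exact (Scheme.Hom.comp_apply _ _ _).symm.trans (by rw [Iso.hom_inv_id]; rfl)
  · rw [← hJ]
    simp only [pt, CommRingCat.ofHom_comp, Spec.map_comp, Category.assoc]

end Affine

section Restrict

variable {P P' Y : Scheme.{u}} {Q : P.Opens} {p : Y ⟶ P} {s : (Q : Scheme.{u}) ⟶ Y} (b : P' ⟶ P)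

/-- The section pulled back along `b`. -/
def sPull (hs : s ≫ p = Q.ι) : ((b ⁻¹ᵁ Q : P'.Opens) : Scheme.{u}) ⟶ pullback p b :=
  pullback.lift ((b ∣_ Q) ≫ s) (b ⁻¹ᵁ Q).ι (by rw [Category.assoc, hs, morphismRestrict_ι])

theorem isLift_restrict (hs : s ≫ p = Q.ι) {W : Scheme.{u}} (w : W ⟶ P') (f : W ⟶ pullback p b) :
    IsLift (b ⁻¹ᵁ Q) (pullback.snd p b) (sPull b hs) w f ↔
      f ≫ pullback.snd p b = w ∧ IsLift Q p s (w ≫ b) (f ≫ pullback.fst p b) := by
  constructor
  · intro h
    refine ⟨h.over', ⟨by rw [Category.assoc, pullback.condition, ← Category.assoc, h.over'], fun v v₀ hv => ?_⟩⟩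
    have hr : Set.range (v ≫ w) ⊆ Set.range (b ⁻¹ᵁ Q).ι := by
      rintro _ ⟨z, rfl⟩
      rw [Scheme.Opens.range_ι]
      show b ((v ≫ w) z) ∈ Q
      rw [← Scheme.Hom.comp_apply, Category.assoc, hv, Scheme.Hom.comp_apply]
      exact (v₀ z).2
    let v₁ := IsOpenImmersion.lift (b ⁻¹ᵁ Q).ι (v ≫ w) hr
    have hv₁ : v₁ ≫ (b ⁻¹ᵁ Q).ι = v ≫ w := IsOpenImmersion.lift_fac _ _ _
    rw [← Category.assoc, h.agree v v₁ hv₁.symm, sPull, Category.assoc, pullback.lift_fst, ← Category.assoc]
    congr 1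
    rw [← cancel_mono Q.ι, Category.assoc, morphismRestrict_ι, ← Category.assoc, hv₁, Category.assoc, hv]
  · rintro ⟨h₁, h₂⟩
    refine ⟨h₁, fun v v₀ hv => pullback.hom_ext ?_ ?_⟩
    · rw [Category.assoc, sPull, Category.assoc, pullback.lift_fst, ← Category.assoc v₀]
      refine h₂.agree v _ ?_
      rw [Category.assoc, morphismRestrict_ι, ← Category.assoc v₀, ← hv, Category.assoc]
    · rw [Category.assoc, h₁, sPull, Category.assoc, pullback.lift_snd, hv]

theorem lifts_restrict_iff (hs : s ≫ p = Q.ι) {W : Scheme.{u}} (w : W ⟶ P') :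
    Lifts (b ⁻¹ᵁ Q) (pullback.snd p b) (sPull b hs) w ↔ Lifts Q p s (w ≫ b) := by
  constructor
  · rintro ⟨f, hf⟩
    exact ⟨_, ((isLift_restrict b hs w f).1 hf).2⟩
  · rintro ⟨f, hf⟩
    refine ⟨pullback.lift f w hf.over', (isLift_restrict b hs w _).2 ⟨pullback.lift_snd _ _ _, ?_⟩⟩
    rwa [pullback.lift_fst]

theorem uniq_of_restrict (hs : s ≫ p = Q.ι) {W : Scheme.{u}} {w : W ⟶ P'}
    (h : Uniq (b ⁻¹ᵁ Q) (pullback.snd p b) (sPull b hs) w) : Uniq Q p s (w ≫ b) := by
  intro f f' hf hf'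
  have := h (pullback.lift f w hf.over') (pullback.lift f' w hf'.over')
    ((isLift_restrict b hs w _).2 ⟨pullback.lift_snd _ _ _, by rwa [pullback.lift_fst]⟩)
    ((isLift_restrict b hs w _).2 ⟨pullback.lift_snd _ _ _, by rwa [pullback.lift_fst]⟩)
  simpa using congrArg (· ≫ pullback.fst p b) this

variable {S : Scheme.{u}} (q : P ⟶ S) {S' T : Scheme.{u}} (a : S' ⟶ S) (g : T ⟶ S')

theorem lt_restrict_iff (hs : s ≫ p = Q.ι) :
    LT (pullback.snd q a) (pullback.fst q a ⁻¹ᵁ Q) (pullback.snd p (pullback.fst q a))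
      (sPull (pullback.fst q a) hs) g ↔ LT q Q p s (g ≫ a) := by
  have sq := (IsPullback.of_hasPullback (pullback.snd q a) g).paste_horiz (IsPullback.of_hasPullback q a)
  exact (lifts_restrict_iff _ hs _).trans ⟨LT.of_isPullback sq, fun h => LT.lifts h sq⟩

theorem ut_of_restrict (hs : s ≫ p = Q.ι) (h : UT (pullback.snd q a) (pullback.fst q a ⁻¹ᵁ Q)
    (pullback.snd p (pullback.fst q a)) (sPull (pullback.fst q a) hs) g) : UT q Q p s (g ≫ a) := by
  have sq := (IsPullback.of_hasPullback (pullback.snd q a) g).paste_horiz (IsPullback.of_hasPullback q a)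
  exact Uniq.of_epi sq.isoPullback.hom ((uniq_of_restrict _ hs h).congr sq.isoPullback_hom_fst.symm)

end Restrict

variable {P S Y : Scheme.{u}} (q : P ⟶ S) [IsProper q] [LocallyOfFinitePresentation q]
  (I : P.IdealSheafData) [Flat (I.subschemeι ≫ q)] {Q : P.Opens} {p : Y ⟶ P} [IsAffineHom p]
  [LocallyOfFinitePresentation p] {s : (Q : Scheme.{u}) ⟶ Y}

theorem exists_closed_of_ideal {A : CommRingCat.{u}} (a : Spec A ⟶ S) (J : Ideal A)
    (hJ : ∀ (T : Type u) [CommRing T] (φ : A →+* T),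
      LT q Q p s (Spec.map (CommRingCat.ofHom φ) ≫ a) ↔ J ≤ RingHom.ker φ) :
    ∃ (Z : Scheme.{u}) (c : Z ⟶ Spec A), IsClosedImmersion c ∧
      ∀ {U : Scheme.{u}} (x : U ⟶ Spec A), LT q Q p s (x ≫ a) ↔ ∃ z, z ≫ c = x := by
  let c : Spec (CommRingCat.of (A ⧸ J)) ⟶ Spec A := Spec.map (CommRingCat.ofHom (Ideal.Quotient.mk J))
  haveI : IsClosedImmersion c := IsClosedImmersion.spec_of_surjective _ Ideal.Quotient.mk_surjective
  have hc : LT q Q p s (c ≫ a) := (hJ _ _).2 (Ideal.mk_ker).ge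
  refine ⟨_, c, inferInstance, fun {U} x => ⟨fun h => ?_, fun h => ?_⟩⟩
  swap
  · obtain ⟨z, hz⟩ := h
    rw [← hz, Category.assoc]
    exact LT.comp hc z
  let 𝒰 := U.affineCover
  have hi : ∀ i, ∃ z : 𝒰.X i ⟶ Spec (CommRingCat.of (A ⧸ J)), z ≫ c = 𝒰.f i ≫ x := fun i => by
    haveI : IsAffine (𝒰.X i) := inferInstance
    obtain ⟨φ, hφ⟩ := Spec.map_surjective ((𝒰.X i).isoSpec.inv ≫ 𝒰.f i ≫ x)
    have hv : LT q Q p s (Spec.map (CommRingCat.ofHom φ.hom) ≫ a) := by
      rw [CommRingCat.ofHom_hom, hφ, Category.assoc, Category.assoc]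
      exact LT.comp (LT.comp h _) _
    have hker := (hJ _ φ.hom).1 hv
    refine ⟨(𝒰.X i).isoSpec.hom ≫ Spec.map (CommRingCat.ofHom (Ideal.Quotient.lift J φ.hom hker)), ?_⟩
    rw [Category.assoc, ← Spec.map_comp, ← CommRingCat.ofHom_comp,
      show (Ideal.Quotient.lift J φ.hom hker).comp (Ideal.Quotient.mk J) = φ.hom from rfl,
      CommRingCat.ofHom_hom, hφ, Iso.hom_inv_id_assoc]
  choose z hz using hi
  refine ⟨Scheme.Cover.glueMorphisms 𝒰 z fun i j => (cancel_mono c).1 ?_, ?_⟩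
  · rw [Category.assoc, Category.assoc, hz, hz, pullback.condition_assoc]
  · refine Scheme.Cover.hom_ext 𝒰 _ _ fun i => ?_
    rw [← Category.assoc, Scheme.Cover.ι_glueMorphisms, hz]

set_option maxHeartbeats 1000000 in
/-- The locus of the base over which the section extends is a closed subscheme. -/
theorem exists_extend_locus (hI : FGA.IsEffCartier I) (hQ : Q = I.support.compl) (hs : s ≫ p = Q.ι) :
    ∃ (Z : Scheme.{u}) (i : Z ⟶ S), IsClosedImmersion i ∧
      ∀ {T : Scheme.{u}} (g : T ⟶ S), LT q Q p s g ↔ ∃ h : T ⟶ Z, h ≫ i = g := by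
  have H : ∀ x : S, ∃ (V : S.Opens) (_ : x ∈ V),
      (∀ {T : Scheme.{u}} (g : T ⟶ (V : Scheme.{u})), UT q Q p s (g ≫ V.ι)) ∧
      ∃ (Z : Scheme.{u}) (c : Z ⟶ (V : Scheme.{u})), IsClosedImmersion c ∧
        ∀ {T : Scheme.{u}} (g : T ⟶ (V : Scheme.{u})), LT q Q p s (g ≫ V.ι) ↔ ∃ h, h ≫ c = g := fun x => by
    obtain ⟨_, ⟨W, hW, rfl⟩, hxW, -⟩ :=
      S.isBasis_affineOpens.exists_subset_of_mem_open (Set.mem_univ x) isOpen_univ
    haveI : IsAffine (W : Scheme.{u}) := hW
    let W₀ : S.Opens := W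
    let b := pullback.fst q W₀.ι
    haveI : Flat ((I.comap b).subschemeι ≫ pullback.snd q W₀.ι) :=
      MorphismProperty.of_isPullback (Groth.L02.Hilb.isPullback_comap (IsPullback.of_hasPullback q W₀.ι) I)
        ‹Flat (I.subschemeι ≫ q)›
    haveI : IsAffineHom (pullback.snd p b) := MorphismProperty.pullback_snd p b inferInstance
    haveI : LocallyOfFinitePresentation (pullback.snd p b) := MorphismProperty.pullback_snd p b inferInstance
    have hQ' : b ⁻¹ᵁ Q = (I.comap b).support.compl := by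
      rw [hQ, Scheme.IdealSheafData.support_comap]
      rfl
    obtain ⟨A, a, J, ha, hxa, hu, hJ⟩ := exists_near (pullback.snd q W₀.ι) (I.comap b)
      (Groth.L22.Ideals.isEffCartier_comap_of_flat b hI) hQ'
      (show sPull b hs ≫ pullback.snd p b = _ from pullback.lift_snd _ _ _) ⟨x, hxW⟩
    have hu' : ∀ {U : Scheme.{u}} (g : U ⟶ Spec A), UT q Q p s (g ≫ a ≫ W₀.ι) := fun g => by
      rw [← Category.assoc]; exact ut_of_restrict q W₀.ι _ hs (hu g)
    obtain ⟨Z, c, hc, hZ⟩ := exists_closed_of_ideal q (a ≫ W₀.ι) J fun T _ φ => by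
      rw [← hJ, lt_restrict_iff, Category.assoc]
    let e := (a ≫ W₀.ι).isoOpensRange
    obtain ⟨v, hv⟩ := hxa
    refine ⟨(a ≫ W₀.ι).opensRange, ⟨v, by rw [Scheme.Hom.comp_apply, hv]; rfl⟩, fun {T} g => ?_,
      Z, c ≫ e.hom, inferInstance, fun {T} g => ?_⟩
    · have := hu' (g ≫ e.inv)
      rwa [Category.assoc, Scheme.Hom.isoOpensRange_inv_comp] at this
    have := hZ (g ≫ e.inv)
    rw [Category.assoc, Scheme.Hom.isoOpensRange_inv_comp] at this
    refine this.trans ⟨fun ⟨h, hh⟩ => ⟨h, by rw [← Category.assoc, hh, Category.assoc, e.inv_hom_id, Category.comp_id]⟩,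
      fun ⟨h, hh⟩ => ⟨h, by rw [← hh, Category.assoc, Category.assoc, e.hom_inv_id, Category.comp_id]⟩⟩
  choose V hV hVu Z c hc hcZ using H
  have hUT : ∀ {T : Scheme.{u}} (g : T ⟶ S), UT q Q p s g := fun {T} g => by
    have hcov : IsOpenCover fun x : S => g ⁻¹ᵁ V x :=
      IsOpenCover.mk (eq_top_iff.2 fun t _ => Opens.mem_iSup.2 ⟨g t, hV (g t)⟩)
    refine UT.of_openCover (Scheme.openCoverOfIsOpenCover T _ hcov) fun x => ?_
    show UT q Q p s ((g ⁻¹ᵁ V x).ι ≫ g)
    rw [← morphismRestrict_ι]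
    exact hVu x _
  obtain ⟨W, i, hi, hW⟩ := Groth.L11.Magnet.exists_closed_of_openCover (S := S) (X := Over.mk (𝟙 S))
    (fun x : S => (V x : S.Opens)) (fun x => ⟨x, hV x⟩) (fun U x => LT q Q p s x.left)
    (fun k x h => LT.comp h k.left)
    (fun {T} {ι} T' k hf hlfp hk x h => by
      let d : (∐ fun a => (T' a).left) ⟶ T.left := Sigma.desc fun a => (k a).left
      haveI : Flat d := IsZariskiLocalAtSource.sigmaDesc fun a => hf a
      haveI : LocallyOfFinitePresentation d := IsZariskiLocalAtSource.sigmaDesc fun a => hlfp a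
      haveI : Surjective d := ⟨fun t => by
        obtain ⟨a, v, hv⟩ := hk t
        refine ⟨Sigma.ι (fun a => (T' a).left) a v, ?_⟩
        show (Sigma.ι (fun a => (T' a).left) a ≫ d) v = t
        rw [Sigma.ι_desc]
        exact hv⟩
      refine LT.descend d (hUT _) (LT.of_openCover (sigmaOpenCover fun a => (T' a).left) (fun _ _ => hUT _) fun a => ?_)
      show LT q Q p s (Sigma.ι (fun a => (T' a).left) a ≫ d ≫ x.left)
      rw [Sigma.ι_desc_assoc]
      exact h a)
    (fun x => by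
      refine ⟨Over.mk (c x ≫ (Scheme.Opens.ι (X := S) (V x)) ≫ 𝟙 S), Over.homMk (c x) rfl, hc x, fun U v => ?_⟩
      show LT q Q p s (v.left ≫ (V x).ι) ↔ _
      rw [hcZ x v.left]
      constructor
      · rintro ⟨j, hj⟩
        refine ⟨Over.homMk j ?_, Over.OverMorphism.ext hj⟩
        show j ≫ c x ≫ (V x).ι ≫ 𝟙 S = U.hom
        rw [← Category.assoc, hj]
        exact Over.w v
      · rintro ⟨w, hw⟩
        exact ⟨w.left, congr($(hw).left)⟩)
  refine ⟨W.left, i.left, hi, fun {T} g => ?_⟩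
  refine (hW (Over.mk g) (Over.homMk g (Category.comp_id g))).trans ⟨fun ⟨w, hw⟩ => ⟨w.left, congr($(hw).left)⟩, ?_⟩
  rintro ⟨h, hh⟩
  refine ⟨Over.homMk h ?_, Over.OverMorphism.ext hh⟩
  have hw : i.left ≫ 𝟙 S = W.hom := Over.w i
  show h ≫ W.hom = g
  rw [← hw]
  exact ((congrArg (h ≫ ·) (Category.comp_id i.left))).trans hh

/-- Being a lift, spelt out on the preimage of `Q`. -/
theorem isLift_iff {W : Scheme.{u}} (w : W ⟶ P) (f : W ⟶ Y) :
    IsLift Q p s w f ↔ f ≫ p = w ∧ (w ⁻¹ᵁ Q).ι ≫ f = (w ∣_ Q) ≫ s := by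
  refine ⟨fun h => ⟨h.over', h.agree _ _ (morphismRestrict_ι w Q).symm⟩, fun ⟨h₁, h₂⟩ => ⟨h₁, fun v v₀ hv => ?_⟩⟩
  have hr : Set.range v ⊆ Set.range (w ⁻¹ᵁ Q).ι := by
    rintro _ ⟨z, rfl⟩
    rw [Scheme.Opens.range_ι]
    show w (v z) ∈ Q
    rw [← Scheme.Hom.comp_apply, hv, Scheme.Hom.comp_apply]
    exact (v₀ z).2
  let v₁ := IsOpenImmersion.lift (w ⁻¹ᵁ Q).ι v hr
  have hv₁ : v₁ ≫ (w ⁻¹ᵁ Q).ι = v := IsOpenImmersion.lift_fac _ _ _
  rw [← hv₁, Category.assoc, h₂, ← Category.assoc]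
  congr 1
  rw [← cancel_mono Q.ι, Category.assoc, morphismRestrict_ι, ← Category.assoc, hv₁, hv]

end Groth.L02.RhoExt
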